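/-
Groups with abelian involution centralisers: basic facts.

* `Setup` : all involution centralisers abelian, a Sylow 2-subgroup with at least two involutions,
  and the centraliser `A` of a central involution `z` not normal
* `exists_conj_z`, `relIndex_A` : one class of involutions; `|N : A| = k`, the number of involutions in `A`
* `fix_exists_unique` : each involution fixes exactly one coset of `N`
* `inverted_sq` : an element centralising a Sylow 2-subgroup and inverted by an involution squares to one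
* `card_T`, `exists_T_decomp` : exactly `k` involutions carry the base point to a given other point,
  and their products cover `N` modulo `A`
-/
import Cfsg.Agent.Lib.CAEven.Setup
import Cfsg.Agent.Lib.TI.Hall
import Cfsg.Agent.Lib.Frobenius.Structure
import Cfsg.Agent.EqLemmas

set_option autoImplicit false

open MulAction
open scoped IsMulCommutative

namespace Cfsg.Agent.AbelCent

open CAEven (Inv inv_conj conj_or_common)

variable {G : Type*} [Group G] [Finite G]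

variable (G) in
/-- Abelian involution centralisers, two involutions in `A`, and `A` not normal. -/
structure Setup where
  /-- Abelian involution centralisers. -/
  hab : ∀ t x y : G, Inv t → Commute x t → Commute y t → Commute x y
  /-- A Sylow 2-subgroup. -/
  S : Sylow 2 G
  /-- An involution centralising `S`. -/
  z : G
  z_inv : Inv z
  z_comm : ∀ s ∈ (S : Subgroup G), Commute s z
  Ntop : Subgroup.normalizer ((Subgroup.centralizer ({z} : Set G) : Subgroup G) : Set G) ≠ ⊤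
  two : ∃ w : G, Inv w ∧ Commute w z ∧ w ≠ z

namespace Setup

variable (E : Setup G)

/-- The centraliser of the central involution. -/
abbrev A : Subgroup G := Subgroup.centralizer ({E.z} : Set G)

/-- Its normaliser. -/
abbrev N : Subgroup G := Subgroup.normalizer (E.A : Set G)

/-- The base point. -/
abbrev pt : G ⧸ E.N := ((1 : G) : G ⧸ E.N)

theorem mem_A {g : G} : g ∈ E.A ↔ Commute g E.z := Subgroup.mem_centralizer_singleton_iff

theorem z_mem : E.z ∈ E.A := E.mem_A.2 (Commute.refl _)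

theorem A_comm {x y : G} (hx : x ∈ E.A) (hy : y ∈ E.A) : Commute x y :=
  E.hab E.z x y E.z_inv (E.mem_A.1 hx) (E.mem_A.1 hy)

theorem commute_iff {u g : G} (hu : Inv u) (huA : u ∈ E.A) : Commute g u ↔ g ∈ E.A :=
  ⟨fun h => E.mem_A.2 (E.hab u g E.z hu h (E.mem_A.1 huA).symm), fun h => E.A_comm h huA⟩

theorem ti {u g : G} (hu : Inv u) (huA : u ∈ E.A) (hgu : g * u * g⁻¹ ∈ E.A) : g ∈ E.N := by
  refine Subgroup.mem_normalizer_iff.2 fun h => ?_
  rw [← E.commute_iff hu huA, ← E.commute_iff (u := g * u * g⁻¹) (inv_conj hu g) hgu]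
  exact (Commute.conj_iff g).symm

theorem mem_N_conj {g x : G} (hg : g ∈ E.N) (hx : x ∈ E.A) : g * x * g⁻¹ ∈ E.A :=
  (Subgroup.mem_normalizer_iff.1 hg x).1 hx

theorem A_le_N : E.A ≤ E.N := Subgroup.le_normalizer

theorem S_le : (E.S : Subgroup G) ≤ E.A := fun s hs => E.mem_A.2 (E.z_comm s hs)

/-- A 2-subgroup normalising `S` lies in `S`. -/
theorem le_S {P : Subgroup G} (hP : IsPGroup 2 P)
    (h : P ≤ Subgroup.normalizer ((E.S : Subgroup G) : Set G)) : P ≤ E.S := by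
  haveI : Fact (Nat.Prime 2) := ⟨Nat.prime_two⟩
  have h1 : (E.S : Subgroup G) ⊔ P = E.S :=
    E.S.3 (E.S.2.to_sup_of_normal_left' hP h) le_sup_left
  exact h1 ▸ le_sup_right

theorem mem_S_of_pow {x : G} (hx : x ∈ E.A) {j : ℕ} (hj : x ^ 2 ^ j = 1) :
    x ∈ (E.S : Subgroup G) := by
  haveI : Fact (Nat.Prime 2) := ⟨Nat.prime_two⟩
  refine E.le_S (P := Subgroup.zpowers x) ?_ (Subgroup.zpowers_le.2 ?_) (Subgroup.mem_zpowers x)
  · obtain ⟨i, -, hi⟩ := (Nat.dvd_prime_pow Nat.prime_two).1 (orderOf_dvd_of_pow_eq_one hj)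
    exact IsPGroup.of_card (n := i) (by rw [Nat.card_zpowers, hi])
  · refine Subgroup.mem_normalizer_iff.2 fun s => ⟨fun hs => ?_, fun hs => ?_⟩
    · rwa [(E.A_comm hx (E.S_le hs)).eq, mul_inv_cancel_right]
    · have hsA : s ∈ E.A := by
        have h := E.A.mul_mem (E.A.mul_mem (E.A.inv_mem hx) (E.S_le hs)) hx
        simpa [mul_assoc] using h
      rwa [(E.A_comm hx hsA).eq, mul_inv_cancel_right] at hs

theorem inv_mem_S {t : G} (ht : Inv t) (htA : t ∈ E.A) : t ∈ (E.S : Subgroup G) :=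
  E.mem_S_of_pow htA (j := 1) (by rw [pow_one, pow_two]; exact ht.2)

theorem z_mem_S : E.z ∈ (E.S : Subgroup G) := E.inv_mem_S E.z_inv E.z_mem

theorem N_le_normalizer_S : E.N ≤ Subgroup.normalizer ((E.S : Subgroup G) : Set G) := by
  intro g hg
  have key : ∀ g ∈ E.N, ∀ s ∈ (E.S : Subgroup G), g * s * g⁻¹ ∈ (E.S : Subgroup G) := by
    intro g hg s hs
    haveI : Fact (Nat.Prime 2) := ⟨Nat.prime_two⟩
    obtain ⟨j, hj⟩ := E.S.2 ⟨s, hs⟩
    exact E.mem_S_of_pow (E.mem_N_conj hg (E.S_le hs)) (j := j) (by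
      rw [conj_pow, show s ^ 2 ^ j = 1 from congrArg Subtype.val hj, mul_one, mul_inv_cancel])
  refine Subgroup.mem_normalizer_iff.2 fun s => ⟨fun hs => key g hg s hs, fun hs => ?_⟩
  have h := key g⁻¹ (inv_mem hg) _ hs
  rwa [inv_inv, show g⁻¹ * (g * s * g⁻¹) * g = s by group] at h

theorem inv_mem_A {t : G} (ht : Inv t) (htN : t ∈ E.N) : t ∈ E.A := by
  haveI : Fact (Nat.Prime 2) := ⟨Nat.prime_two⟩
  refine E.S_le (E.le_S (P := Subgroup.zpowers t) (IsPGroup.of_card (n := 1) ?_)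
    (Subgroup.zpowers_le.2 (E.N_le_normalizer_S htN)) (Subgroup.mem_zpowers t))
  rw [Nat.card_zpowers, pow_one, orderOf_eq_prime (by rw [pow_two]; exact ht.2) ht.1]

/-- All 2-subgroups are abelian. -/
theorem commute_of_two (E : Setup G) {P : Subgroup G} (hP : IsPGroup 2 P) {x y : G} (hx : x ∈ P) (hy : y ∈ P) :
    Commute x y := by
  haveI : Fact (Nat.Prime 2) := ⟨Nat.prime_two⟩
  obtain ⟨Q, hQ⟩ := hP.exists_le_sylow
  obtain ⟨g, hg⟩ := MulAction.exists_smul_eq G E.S Q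
  have key : ∀ x ∈ P, g⁻¹ * x * g ∈ E.A := by
    intro x hx
    have h := hQ hx
    rw [← hg, Sylow.coe_subgroup_smul] at h
    obtain ⟨s, hs, rfl⟩ := h
    have e : g⁻¹ * ((MulDistribMulAction.toMonoidEnd (MulAut G) G) (MulAut.conj g) s) * g = s := by
      show g⁻¹ * (g * s * g⁻¹) * g = s
      group
    exact (congrArg (· ∈ E.A) e).mpr (E.S_le hs)
  have h := E.A_comm (key x hx) (key y hy)
  have h' := (Commute.conj_iff g⁻¹).1 (show Commute (g⁻¹ * x * g⁻¹⁻¹) (g⁻¹ * y * g⁻¹⁻¹) by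
    rwa [inv_inv])
  exact h'

theorem exists_conj_z {t : G} (ht : Inv t) : ∃ g : G, g * E.z * g⁻¹ = t := by
  have key : ∀ {t : G}, Inv t → t ∈ E.A → ∃ g : G, g * E.z * g⁻¹ = t := by
    intro t ht htA
    by_contra hno
    refine E.Ntop (eq_top_iff.2 fun g _ => ?_)
    refine E.ti E.z_inv E.z_mem ?_
    rcases conj_or_common (inv_conj E.z_inv g) ht with ⟨h, hh⟩ | ⟨w, hw, hw1, hw2⟩
    · exact absurd ⟨h * g, by rw [← hh]; group⟩ hno
    · exact (E.commute_iff ht htA).1 (E.hab w _ t hw hw1.symm hw2.symm)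
  rcases conj_or_common E.z_inv ht with h | ⟨w, hw, hw1, hw2⟩
  · exact h
  · exact key ht (E.mem_A.2 (E.hab w t E.z hw hw2.symm hw1.symm))

/-- The involutions of `A`. -/
def invs : Set G := {t | t ∈ E.A ∧ Inv t}

theorem exists_N_conj {t : G} (ht : t ∈ E.invs) : ∃ g ∈ E.N, g * E.z * g⁻¹ = t := by
  obtain ⟨g, hg⟩ := E.exists_conj_z ht.2
  exact ⟨g, E.ti E.z_inv E.z_mem (hg ▸ ht.1), hg⟩

/-- The number of involutions of `A`. -/
noncomputable def k : ℕ := Nat.card E.invs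

theorem relIndex_A : E.A.relIndex E.N = E.k := by
  show (E.A.subgroupOf E.N).index = _
  rw [Subgroup.index_eq_card]
  let φ : E.N → E.invs := fun g =>
    ⟨(g : G) * E.z * (g : G)⁻¹, E.mem_N_conj g.2 E.z_mem, inv_conj E.z_inv _⟩
  refine Nat.card_congr (Equiv.ofBijective
    (fun q : E.N ⧸ E.A.subgroupOf E.N => Quotient.liftOn' q φ ?_) ⟨?_, ?_⟩)
  · intro g h hgh
    rw [QuotientGroup.leftRel_apply, Subgroup.mem_subgroupOf] at hgh
    have hc := E.mem_A.1 hgh
    refine Subtype.ext ?_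
    show (g : G) * E.z * (g : G)⁻¹ = (h : G) * E.z * (h : G)⁻¹
    rw [Subgroup.coe_mul, Subgroup.coe_inv] at hc
    have : (g : G)⁻¹ * h * E.z * ((g : G)⁻¹ * h)⁻¹ = E.z := by rw [hc.eq, mul_inv_cancel_right]
    conv_lhs => rw [← this]
    group
  · intro q r
    refine Quotient.inductionOn₂' q r fun g h hgh => ?_
    have e : (g : G) * E.z * (g : G)⁻¹ = (h : G) * E.z * (h : G)⁻¹ := congrArg Subtype.val hgh
    refine QuotientGroup.eq.2 (Subgroup.mem_subgroupOf.2 (E.mem_A.2 ?_))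
    show _ = _
    rw [Subgroup.coe_mul, Subgroup.coe_inv, mul_assoc]
    calc (g : G)⁻¹ * ((h : G) * E.z) = (g : G)⁻¹ * ((h : G) * E.z * (h : G)⁻¹) * h := by group
      _ = E.z * ((g : G)⁻¹ * h) := by rw [← e]; group
  · intro t
    obtain ⟨g, hg, hgt⟩ := E.exists_N_conj t.2
    exact ⟨QuotientGroup.mk ⟨g, hg⟩, Subtype.ext hgt⟩

/-- The elements of `A` squaring to one. -/
def W : Subgroup G where
  carrier := {t | t ∈ E.A ∧ t * t = 1}
  one_mem' := ⟨E.A.one_mem, mul_one 1⟩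
  mul_mem' := fun {s t} hs ht => ⟨E.A.mul_mem hs.1 ht.1, by
    rw [(E.A_comm ht.1 hs.1).mul_mul_mul_comm, hs.2, ht.2, mul_one]⟩
  inv_mem' := fun {t} ht => ⟨E.A.inv_mem ht.1, by rw [← mul_inv_rev, ht.2, inv_one]⟩

theorem card_W : Nat.card E.W = E.k + 1 := by
  have e : E.invs = (E.W : Set G) \ {1} := by
    ext t
    exact ⟨fun h => ⟨⟨h.1, h.2.2⟩, h.2.1⟩, fun h => ⟨h.1.1, h.2, h.1.2⟩⟩
  unfold k
  rw [Nat.card_coe_set_eq, e, Set.ncard_sdiff_singleton_add_one E.W.one_mem (Set.toFinite _),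
    ← Nat.card_coe_set_eq]
  rfl

theorem exists_card_W : ∃ r : ℕ, E.k + 1 = 2 ^ r := by
  haveI : Fact (Nat.Prime 2) := ⟨Nat.prime_two⟩
  obtain ⟨r, hr⟩ := IsPGroup.iff_card.1 (show IsPGroup 2 E.W from fun x =>
    ⟨1, Subtype.ext (by rw [pow_one, Subgroup.coe_pow, pow_two]; exact x.2.2)⟩)
  exact ⟨r, E.card_W ▸ hr⟩

theorem two_le_k : 2 ≤ E.k := by
  by_contra h
  obtain ⟨w, hw, hwz, hne⟩ := E.two
  have hsub : Subsingleton E.invs := Finite.card_le_one_iff_subsingleton.1 (by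
    unfold k at h; omega)
  exact hne (congrArg Subtype.val (Subsingleton.elim (⟨w, E.mem_A.2 hwz, hw⟩ : E.invs)
    ⟨E.z, E.z_mem, E.z_inv⟩))

theorem odd_k : Odd E.k := by
  obtain ⟨r, hr⟩ := E.exists_card_W
  rcases r with _ | r
  · have := E.two_le_k; omega
  · exact ⟨2 ^ r - 1, by have := Nat.one_le_two_pow (n := r); rw [pow_succ] at hr; omega⟩

/-! ### The action on the cosets of `N` -/

theorem smul_pt (g : G) : g • E.pt = (g : G ⧸ E.N) := by
  rw [MulAction.Quotient.smul_coe, smul_eq_mul, mul_one]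

theorem exists_smul_pt (c : G ⧸ E.N) : ∃ g : G, g • E.pt = c :=
  ⟨c.out, by rw [E.smul_pt, QuotientGroup.out_eq']⟩

theorem stab_pt {g : G} : g • E.pt = E.pt ↔ g ∈ E.N := by
  rw [E.smul_pt, QuotientGroup.eq, mul_one, inv_mem_iff]

theorem fix_iff (t g : G) : t • (g • E.pt) = g • E.pt ↔ g⁻¹ * t * g ∈ E.N := by
  rw [← E.stab_pt, mul_smul, mul_smul, inv_smul_eq_iff]

theorem fix_exists_unique {t : G} (ht : Inv t) : ∃! c : G ⧸ E.N, t • c = c := by
  obtain ⟨g, rfl⟩ := E.exists_conj_z ht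
  have hfix : (g * E.z * g⁻¹) • (g • E.pt) = g • E.pt := (E.fix_iff _ _).2 (by
    have : g⁻¹ * (g * E.z * g⁻¹) * g = E.z := by group
    rw [this]; exact E.A_le_N E.z_mem)
  refine ⟨_, hfix, fun c hc => ?_⟩
  obtain ⟨h, rfl⟩ := E.exists_smul_pt c
  have hA : (h⁻¹ * g) * E.z * (h⁻¹ * g)⁻¹ ∈ E.A := by
    have := E.inv_mem_A (inv_conj (inv_conj E.z_inv g) h⁻¹) (by
      rw [inv_inv]; exact (E.fix_iff _ _).1 hc)
    have e : (h⁻¹ * g) * E.z * (h⁻¹ * g)⁻¹ = h⁻¹ * (g * E.z * g⁻¹) * (h⁻¹)⁻¹ := by group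
    rwa [e]
  have := E.stab_pt.2 (E.ti E.z_inv E.z_mem hA)
  rw [mul_smul, inv_smul_eq_iff] at this
  exact this.symm

/-- The involutions fixing `g • pt` are the conjugates of those of `A` by `g`. -/
theorem inv_fix {t g : G} (ht : Inv t) (h : t • (g • E.pt) = g • E.pt) :
    g⁻¹ * t * g ∈ E.invs :=
  ⟨E.inv_mem_A (by simpa using inv_conj ht g⁻¹) ((E.fix_iff _ _).1 h),
    by simpa using inv_conj ht g⁻¹⟩

theorem card_fibre (c : G ⧸ E.N) : Nat.card {t : G // Inv t ∧ t • c = c} = E.k := by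
  obtain ⟨g, rfl⟩ := E.exists_smul_pt c
  refine Nat.card_congr (Equiv.ofBijective
    (fun t => (⟨g⁻¹ * t.1 * g, E.inv_fix t.2.1 t.2.2⟩ : E.invs)) ⟨?_, ?_⟩)
  · intro t u htu
    exact Subtype.ext (mul_left_cancel (mul_right_cancel (congrArg Subtype.val htu)))
  · intro u
    refine ⟨⟨g * u.1 * g⁻¹, inv_conj u.2.2 g, (E.fix_iff _ _).2 ?_⟩, Subtype.ext ?_⟩
    · have : g⁻¹ * (g * u.1 * g⁻¹) * g = u.1 := by group
      rw [this]; exact E.A_le_N u.2.1
    · show g⁻¹ * (g * u.1 * g⁻¹) * g = u.1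
      group

/-- An involution fixed point is fixed by the centraliser of the involution. -/
theorem fix_of_commute {t x : G} (ht : Inv t) (hxt : Commute x t) {c : G ⧸ E.N} (hc : t • c = c) :
    x • c = c :=
  (E.fix_exists_unique ht).unique (by rw [← mul_smul, ← hxt.eq, mul_smul, hc]) hc

/-- An element centralising a Sylow 2-subgroup and inverted by an involution squares to one. -/
theorem inverted_sq {x t : G} (ht : Inv t) (htx : t * x * t⁻¹ = x⁻¹) {g : G}
    (hx : ∀ s ∈ (E.S : Subgroup G), Commute (g * s * g⁻¹) x) : x * x = 1 := by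
  haveI : Fact (Nat.Prime 2) := ⟨Nat.prime_two⟩
  let C := Subgroup.centralizer ({x} : Set G)
  have hC : ∀ y ∈ C, t * y * t⁻¹ ∈ C := by
    intro y hy
    have h1 : Commute y x := Subgroup.mem_centralizer_singleton_iff.1 hy
    refine Subgroup.mem_centralizer_singleton_iff.2 ?_
    have h2 : Commute (t * y * t⁻¹) (t * x⁻¹ * t⁻¹) := (Commute.conj_iff t).2 h1.inv_right
    rwa [← conj_inv, htx, inv_inv] at h2
  let P₁ : Sylow 2 G := g • E.S
  have hP₁ : (P₁ : Subgroup G) ≤ C := by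
    intro y hy
    rw [Sylow.coe_subgroup_smul] at hy
    obtain ⟨s, hs, rfl⟩ := hy
    exact Subgroup.mem_centralizer_singleton_iff.2 (hx s hs).eq
  -- the Sylow 2-subgroups of `G` inside `C`, permuted by `t`
  let Q : Set (Sylow 2 G) := {P | (P : Subgroup G) ≤ C}
  have hodd : ¬ 2 ∣ Nat.card {P : Sylow 2 G // P ∈ Q} := by
    have e : {P : Sylow 2 G // P ∈ Q} ≃ Sylow 2 C :=
      { toFun := fun P => P.1.subtype P.2
        invFun := fun P => ⟨⟨(P : Subgroup C).map C.subtype, P.2.map _, fun {R} hR hle => ?_⟩,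
          Subgroup.map_subtype_le _⟩
        left_inv := fun P => Subtype.ext (Sylow.ext ?_)
        right_inv := fun P => Sylow.ext ?_ }
    · rw [Nat.card_congr e]
      exact fun h => by
        have := card_sylow_modEq_one 2 C
        rw [Nat.ModEq, Nat.one_mod] at this
        omega
    · -- a Sylow subgroup of `C` is a Sylow subgroup of `G`
      refine (Subgroup.eq_of_le_of_card_ge hle ?_).symm
      have h1 : Nat.card (P : Subgroup C) = Nat.card (P₁.subtype hP₁ : Subgroup C) :=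
        Nat.card_congr (Sylow.equiv P (P₁.subtype hP₁)).toEquiv
      rw [Nat.card_congr ((P : Subgroup C).equivMapOfInjective _ C.subtype_injective).symm.toEquiv, h1,
        Sylow.coe_subtype, Nat.card_congr (Subgroup.subgroupOfEquivOfLe hP₁).toEquiv]
      obtain ⟨P₂, hP₂⟩ := hR.exists_le_sylow
      rw [Nat.card_congr (Sylow.equiv P₁ P₂).toEquiv]
      exact Subgroup.card_le_of_le hP₂
    · show ((P.1.subtype P.2 : Sylow 2 C) : Subgroup C).map C.subtype = _
      rw [Sylow.coe_subtype, Subgroup.map_subgroupOf_eq_of_le P.2]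
    · show ((P : Subgroup C).map C.subtype).subgroupOf C = P
      exact Subgroup.comap_map_eq_self_of_injective C.subtype_injective _
  have htt : t⁻¹ = t := inv_eq_of_mul_eq_one_right ht.2
  have hQ : ∀ P ∈ Q, t • P ∈ Q := by
    intro P hP y hy
    rw [Sylow.coe_subgroup_smul] at hy
    obtain ⟨s, hs, rfl⟩ := hy
    exact hC s (hP hs)
  let f : {P : Sylow 2 G // P ∈ Q} → {P : Sylow 2 G // P ∈ Q} := fun P => ⟨t • P.1, hQ _ P.2⟩
  have hf : Function.Involutive f := fun P => Subtype.ext (by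
    show t • t • P.1 = P.1
    rw [smul_smul, ht.2, one_smul])
  obtain ⟨P, hP⟩ : ∃ P, f P = P := by
    classical
    have := Fintype.ofFinite {P : Sylow 2 G // P ∈ Q}
    exact Equiv.Perm.exists_fixed_point_of_prime (p := 2) (n := 1)
      (by rwa [← Nat.card_eq_fintype_card]) (σ := hf.toPerm f)
      (Equiv.ext fun P => by simp [pow_two, hf P])
  have hfix : t • P.1 = P.1 := congrArg Subtype.val hP
  have htN := Sylow.smul_eq_iff_mem_normalizer.1 hfix
  have htp : IsPGroup 2 (Subgroup.zpowers t) := IsPGroup.of_card (n := 1) (by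
    rw [Nat.card_zpowers, pow_one, orderOf_eq_prime (by rw [pow_two]; exact ht.2) ht.1])
  have hle : (P.1 : Subgroup G) ⊔ Subgroup.zpowers t = P.1 :=
    P.1.3 (P.1.2.to_sup_of_normal_left' htp (Subgroup.zpowers_le.2 htN)) le_sup_left
  have htC : Commute t x := Subgroup.mem_centralizer_singleton_iff.1
    (P.2 (hle ▸ Subgroup.mem_sup_right (Subgroup.mem_zpowers t)))
  rw [htC.eq, mul_inv_cancel_right] at htx
  exact eq_inv_iff_mul_eq_one.1 htx

theorem A_inverted {x t : G} (hx : x ∈ E.A) (ht : Inv t) (htx : t * x * t⁻¹ = x⁻¹) : x * x = 1 :=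
  E.inverted_sq ht htx (g := 1) fun s hs => by simpa using E.A_comm (E.S_le hs) hx

/-- The stabiliser of the base point and `b`. -/
abbrev D (b : G ⧸ E.N) : Subgroup G := stabilizer G E.pt ⊓ stabilizer G b

theorem mem_D {b : G ⧸ E.N} {x : G} : x ∈ E.D b ↔ x • E.pt = E.pt ∧ x • b = b := Iff.rfl

theorem D_le_N (b : G ⧸ E.N) : E.D b ≤ E.N := fun _ hx => E.stab_pt.1 hx.1

theorem D_ne_inv {b : G ⧸ E.N} (hb : b ≠ E.pt) {d : G} (hd : d ∈ E.D b) (h : d * d = 1) : d = 1 := by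
  by_contra h1
  exact hb ((E.fix_exists_unique ⟨h1, h⟩).unique hd.2 hd.1)

theorem odd_D {b : G ⧸ E.N} (hb : b ≠ E.pt) : Odd (Nat.card (E.D b)) := by
  by_contra hev
  rw [Nat.not_odd_iff_even, even_iff_two_dvd] at hev
  haveI : Fact (Nat.Prime 2) := ⟨Nat.prime_two⟩
  obtain ⟨d, hd⟩ := exists_prime_orderOf_dvd_card' 2 hev
  have hd2 := pow_orderOf_eq_one d
  rw [hd, pow_two] at hd2
  have := E.D_ne_inv hb d.2 (congrArg Subtype.val hd2)
  rw [← Subgroup.orderOf_coe, this, orderOf_one] at hd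
  omega

/-- An element of `A ∩ D b` inverted by an involution is trivial. -/
theorem D_A_inverted {b : G ⧸ E.N} (hb : b ≠ E.pt) {x t : G} (hxD : x ∈ E.D b) (hx : x ∈ E.A)
    (ht : Inv t) (htx : t * x * t⁻¹ = x⁻¹) : x = 1 :=
  E.D_ne_inv hb hxD (E.A_inverted hx ht htx)

/-- The involutions carrying the base point to `b`. -/
def T (b : G ⧸ E.N) : Set G := {t | Inv t ∧ t • E.pt = b}

theorem T_back {b : G ⧸ E.N} {t : G} (ht : t ∈ E.T b) : t • b = E.pt := by
  rw [← ht.2, smul_smul, ht.1.2, one_smul]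

theorem mul_mem_D {b : G ⧸ E.N} {s t : G} (hs : s ∈ E.T b) (ht : t ∈ E.T b) : s * t ∈ E.D b :=
  E.mem_D.2 ⟨by rw [mul_smul, ht.2, E.T_back hs], by rw [mul_smul, E.T_back ht, hs.2]⟩

theorem T_inv {b : G ⧸ E.N} {t : G} (ht : t ∈ E.T b) : t⁻¹ = t :=
  inv_eq_of_mul_eq_one_right ht.1.2

theorem T_inverts {b : G ⧸ E.N} {s t : G} (hs : s ∈ E.T b) (ht : t ∈ E.T b) :
    s * (s * t) * s⁻¹ = (s * t)⁻¹ := by
  rw [mul_inv_rev, E.T_inv hs, E.T_inv ht, ← mul_assoc, hs.1.2, one_mul]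

theorem T_conj_D {b : G ⧸ E.N} {t d : G} (ht : t ∈ E.T b) (hd : d ∈ E.D b) :
    t * d * t⁻¹ ∈ E.D b := by
  rw [E.T_inv ht]
  exact E.mem_D.2 ⟨by rw [mul_smul, mul_smul, ht.2, hd.2, E.T_back ht],
    by rw [mul_smul, mul_smul, E.T_back ht, hd.1, ht.2]⟩

theorem D_conj_T {b : G ⧸ E.N} {t d : G} (ht : t ∈ E.T b) (hd : d ∈ E.D b) :
    d * t * d⁻¹ ∈ E.T b := by
  refine ⟨inv_conj ht.1 d, ?_⟩
  have hd' := (E.D b).inv_mem hd
  rw [mul_smul, mul_smul, hd'.1, ht.2, hd.2]

theorem T_eq_of_mem_A {b : G ⧸ E.N} (hb : b ≠ E.pt) {t u : G} (ht : t ∈ E.T b) (hu : u ∈ E.T b)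
    (h : t * u ∈ E.A) : t = u := by
  have h1 := E.D_A_inverted hb (E.mul_mem_D ht hu) h ht.1 (E.T_inverts ht hu)
  rw [mul_eq_one_iff_eq_inv, E.T_inv hu] at h1
  exact h1

/-- Map from `T b` to the cosets of `A` in `N`. -/
def Tmap {b : G ⧸ E.N} {s : G} (hs : s ∈ E.T b) (t : E.T b) : E.N ⧸ E.A.subgroupOf E.N :=
  QuotientGroup.mk ⟨s * t, E.D_le_N b (E.mul_mem_D hs t.2)⟩

theorem Tmap_injective {b : G ⧸ E.N} (hb : b ≠ E.pt) {s : G} (hs : s ∈ E.T b) :
    Function.Injective (E.Tmap hs) := by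
  intro t u htu
  have h := QuotientGroup.eq.1 htu
  rw [Subgroup.mem_subgroupOf] at h
  refine Subtype.ext (E.T_eq_of_mem_A hb t.2 u.2 ?_)
  have e : (s * (t : G))⁻¹ * (s * u) = t * u := by
    rw [mul_inv_rev, E.T_inv t.2]; group
  rw [← e]
  exact h

theorem card_T_le {b : G ⧸ E.N} (hb : b ≠ E.pt) : Nat.card (E.T b) ≤ E.k := by
  rcases isEmpty_or_nonempty (E.T b) with h | ⟨⟨s, hs⟩⟩
  · simp
  · rw [← E.relIndex_A]
    show _ ≤ (E.A.subgroupOf E.N).index
    rw [Subgroup.index_eq_card]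
    exact Nat.card_le_card_of_injective _ (E.Tmap_injective hb hs)

theorem card_T {b : G ⧸ E.N} (hb : b ≠ E.pt) : Nat.card (E.T b) = E.k := by
  classical
  have := Fintype.ofFinite G
  let J : Finset G := Finset.univ.filter fun t => Inv t
  have hfib : ∀ (p : G → Prop) [DecidablePred p],
      (J.filter p).card = Nat.card {t : G // Inv t ∧ p t} := by
    intro p _
    rw [Finset.filter_filter, Nat.card_eq_fintype_card, Fintype.card_subtype]
  have h1 : J.card = Fintype.card (G ⧸ E.N) * E.k := by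
    rw [Finset.card_eq_sum_card_fiberwise
      (f := fun t => if h : CAEven.Inv t then (E.fix_exists_unique h).choose else E.pt)
      (t := Finset.univ) (fun _ _ => Finset.mem_univ _), ← Finset.card_univ]
    rw [Finset.sum_const_nat (m := E.k)]
    intro c _
    have hset : J.filter (fun t => (if h : CAEven.Inv t then (E.fix_exists_unique h).choose else E.pt) = c) =
        J.filter fun t => t • c = c := by
      refine Finset.filter_congr fun t ht => ?_
      have hti : Inv t := (Finset.mem_filter.1 ht).2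
      rw [dif_pos hti]
      have hsp := (E.fix_exists_unique hti).choose_spec
      exact ⟨fun h => h ▸ hsp.1, fun h => (hsp.2 c h).symm⟩
    rw [hset, hfib]
    exact E.card_fibre c
  have h2 : J.card = ∑ c : G ⧸ E.N, Nat.card (E.T c) := by
    rw [Finset.card_eq_sum_card_fiberwise (f := fun t => t • E.pt) (t := Finset.univ)
      (fun _ _ => Finset.mem_univ _)]
    refine Finset.sum_congr rfl fun c _ => ?_
    rw [hfib]
    rfl
  have hle : ∀ c : G ⧸ E.N, c ∈ Finset.univ → Nat.card (E.T c) ≤ E.k := by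
    intro c _
    rcases eq_or_ne c E.pt with rfl | hc
    · exact (E.card_fibre E.pt).le
    · exact E.card_T_le hc
  refine (Finset.sum_eq_sum_iff_of_le hle).1 ?_ b (Finset.mem_univ _)
  rw [← h2, h1, Finset.sum_const, Finset.card_univ, smul_eq_mul]

theorem exists_swap {b : G ⧸ E.N} (hb : b ≠ E.pt) : ∃ s : G, s ∈ E.T b := by
  have h := E.card_T hb
  have := E.two_le_k
  rcases isEmpty_or_nonempty (E.T b) with he | ⟨⟨s, hs⟩⟩
  · rw [Nat.card_of_isEmpty] at h; omega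
  · exact ⟨s, hs⟩

theorem exists_T_decomp {b : G ⧸ E.N} (hb : b ≠ E.pt) {s : G} (hs : s ∈ E.T b) {g : G}
    (hg : g ∈ E.N) : ∃ t ∈ E.T b, (s * t)⁻¹ * g ∈ E.A := by
  have hbij : Function.Bijective (E.Tmap hs) := by
    refine (Nat.bijective_iff_injective_and_card _).2 ⟨E.Tmap_injective hb hs, ?_⟩
    rw [E.card_T hb, ← Subgroup.index_eq_card]
    exact E.relIndex_A.symm
  obtain ⟨t, ht⟩ := hbij.2 (QuotientGroup.mk ⟨g, hg⟩)
  exact ⟨t, t.2, Subgroup.mem_subgroupOf.1 (QuotientGroup.eq.1 ht)⟩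

/-- `A ∩ D b`. -/
abbrev D₀ (b : G ⧸ E.N) : Subgroup G := E.D b ⊓ E.A

theorem card_D {b : G ⧸ E.N} (hb : b ≠ E.pt) :
    Nat.card (E.D b) = E.k * Nat.card (E.D₀ b) := by
  let ρ : E.D b →* E.N ⧸ E.A.subgroupOf E.N :=
    (QuotientGroup.mk' _).comp (Subgroup.inclusion (E.D_le_N b))
  have hk : ρ.ker = (E.D₀ b).subgroupOf (E.D b) := by
    ext x
    show QuotientGroup.mk (s := E.A.subgroupOf E.N) (Subgroup.inclusion (E.D_le_N b) x) = 1 ↔ _
    rw [QuotientGroup.eq_one_iff, Subgroup.mem_subgroupOf, Subgroup.mem_subgroupOf]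
    exact ⟨fun h => ⟨x.2, h⟩, fun h => h.2⟩
  have hsurj : Function.Surjective ρ := by
    intro q
    obtain ⟨⟨g, hg⟩, rfl⟩ := QuotientGroup.mk_surjective q
    obtain ⟨s, hs⟩ := E.exists_swap hb
    obtain ⟨t, ht, hA⟩ := E.exists_T_decomp hb hs hg
    exact ⟨⟨s * t, E.mul_mem_D hs ht⟩, QuotientGroup.eq.2 (Subgroup.mem_subgroupOf.2 hA)⟩
  rw [← ρ.ker.card_mul_index, Subgroup.index_ker, MonoidHom.range_eq_top.2 hsurj, Subgroup.card_top,
    hk, Nat.card_congr (Subgroup.subgroupOfEquivOfLe (inf_le_left : E.D₀ b ≤ E.D b)).toEquiv,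
    ← Subgroup.index_eq_card, mul_comm]
  exact congrArg (· * _) E.relIndex_A

instance isMulCommutative_W : IsMulCommutative E.W :=
  ⟨⟨fun x y => Subtype.ext (E.A_comm x.2.1 y.2.1).eq⟩⟩

theorem smallCyclic : Frobenius.SmallCyclic (E.N ⧸ E.A.subgroupOf E.N) := by
  have hWN : E.N ≤ Subgroup.normalizer (E.W : Set G) := by
    have key : ∀ g ∈ E.N, ∀ w ∈ E.W, g * w * g⁻¹ ∈ E.W := fun g hg w hw =>
      ⟨E.mem_N_conj hg hw.1, by rw [conj_mul, hw.2, mul_one, mul_inv_cancel]⟩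
    intro g hg
    refine Subgroup.mem_normalizer_iff.2 fun w => ⟨fun hw => key g hg w hw, fun hw => ?_⟩
    have h := key g⁻¹ (inv_mem hg) _ hw
    rwa [inv_inv, show g⁻¹ * (g * w * g⁻¹) * g = w by group] at h
  let φ₀ : E.N →* MulAut E.W :=
    (MulAut.conjNormal (H := E.W.subgroupOf (Subgroup.normalizer (E.W : Set G)))).comp
      (Subgroup.inclusion hWN) |> fun f => (MulAut.congr (Subgroup.subgroupOfEquivOfLe
        (Subgroup.le_normalizer (H := E.W)))).toMonoidHom.comp f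
  have hφ₀ : ∀ (g : E.N) (w : E.W), ((φ₀ g w : E.W) : G) = g * w * (g : G)⁻¹ := fun g w => rfl
  have hker : E.A.subgroupOf E.N ≤ φ₀.ker := by
    intro a ha
    rw [MonoidHom.mem_ker]
    refine MulEquiv.ext fun w => Subtype.ext ?_
    rw [hφ₀, (E.A_comm (Subgroup.mem_subgroupOf.1 ha) w.2.1).eq, mul_inv_cancel_right]
    rfl
  haveI : Nontrivial E.W := Finite.one_lt_card_iff_nontrivial.1 (by
    rw [E.card_W]; have := E.two_le_k; omega)
  refine TI.smallCyclic_of_fpf_aut (QuotientGroup.lift _ φ₀ hker) ?_ ?_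
  · rw [E.card_W, ← Subgroup.index_eq_card, show (E.A.subgroupOf E.N).index = E.k from E.relIndex_A]
    exact Nat.coprime_self_add_right.2 (Nat.coprime_one_right _)
  · intro q
    refine QuotientGroup.induction_on q fun g hg w hw => ?_
    by_contra hw1
    refine hg ((QuotientGroup.eq_one_iff g).2 (Subgroup.mem_subgroupOf.2 ?_))
    have hwG : (w : G) ≠ 1 := fun h => hw1 (Subtype.ext h)
    refine (E.commute_iff ⟨hwG, w.2.2⟩ w.2.1).1 ?_
    have h : (g : G) * w * (g : G)⁻¹ = w := by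
      rw [← hφ₀]
      exact congrArg Subtype.val hw
    exact mul_inv_eq_iff_eq_mul.1 h

theorem odd_Nbar : ¬ 2 ∣ Nat.card (E.N ⧸ E.A.subgroupOf E.N) := by
  rw [← Subgroup.index_eq_card, show (E.A.subgroupOf E.N).index = E.k from E.relIndex_A]
  exact Nat.two_dvd_ne_zero.2 (Nat.odd_iff.1 E.odd_k)

theorem isZGroup : IsZGroup (E.N ⧸ E.A.subgroupOf E.N) :=
  E.smallCyclic.isZGroup_of_odd E.odd_Nbar

end Setup

end Cfsg.Agent.AbelCent
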