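/-
Groups with abelian involution centralisers in which `A` is transitive on the points other than
the base point.

* `K`, `K_le_center` : the kernel of the action is a central subgroup of `A`
* `Good` : `A` is transitive on the other points
* `fix3`, `zassenhaus` : modulo `K` the action is a Zassenhaus action
* `card_omega`, `exists_psl` : there are `k + 2` points and `G / K ≅ PSL₂(k + 1)`
-/
import Cfsg.Agent.Lib.AbelCent.Setup
import Cfsg.Agent.Lib.Zassenhaus.AbelianKernel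
import Cfsg.Agent.Lib.PSL2.PGL
import Cfsg.Agent.S0727
import Cfsg.Agent.EqLemmas

set_option autoImplicit false

open MulAction Matrix

namespace Cfsg.Agent.AbelCent

open CAEven (Inv inv_conj conj_or_common)

/-- In a group of odd order no element but the identity is conjugate to its inverse. -/
theorem eq_one_of_inverted {M : Type*} [Group M] [Finite M] (hodd : ¬ 2 ∣ Nat.card M) {a b : M}
    (h : a * b * a⁻¹ = b⁻¹) : b = 1 := by
  obtain ⟨j, hj⟩ := Nat.odd_iff.2 (Nat.two_dvd_ne_zero.1 hodd)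
  have h2 : Commute (a * a) b := by
    show a * a * b = b * (a * a)
    have h3 : a * b⁻¹ * a⁻¹ = b := by rw [← conj_inv, h, inv_inv]
    calc a * a * b = a * (a * b * a⁻¹) * a := by group
      _ = a * b⁻¹ * a⁻¹ * (a * a) := by rw [h]; group
      _ = b * (a * a) := by rw [h3]
  have ha : a = (a * a) ^ (j + 1) := by
    have hm : a ^ (2 * j + 1) = 1 := hj ▸ pow_card_eq_one' (x := a)
    rw [← pow_two, ← pow_mul, show 2 * (j + 1) = 2 * j + 1 + 1 by ring, pow_succ, hm, one_mul]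
  have hab : Commute a b := ha ▸ h2.pow_left (j + 1)
  rw [hab.eq, mul_inv_cancel_right] at h
  have hb2 : b ^ 2 = 1 := by rw [pow_two]; exact eq_inv_iff_mul_eq_one.1 h
  have hb := pow_card_eq_one' (x := b)
  rwa [hj, pow_succ, pow_mul, hb2, one_pow, one_mul] at hb

variable {G : Type*} [Group G] [Finite G]

namespace Setup

variable (E : Setup G)

/-- The kernel of the action. -/
def K : Subgroup G := (MulAction.toPermHom G (G ⧸ E.N)).ker

theorem mem_K {x : G} : x ∈ E.K ↔ ∀ c : G ⧸ E.N, x • c = c :=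
  ⟨fun h c => Equiv.congr_fun (MonoidHom.mem_ker.1 h) c,
    fun h => MonoidHom.mem_ker.2 (Equiv.ext h)⟩

instance K_normal : E.K.Normal := MonoidHom.normal_ker _

theorem exists_ne_pt : ∃ b : G ⧸ E.N, b ≠ E.pt := by
  by_contra h
  push Not at h
  exact E.Ntop (eq_top_iff.2 fun g _ => E.stab_pt.1 (h _))

theorem K_le_A : E.K ≤ E.A := by
  intro g hg
  have hgN : g ∈ E.N := E.stab_pt.1 (E.mem_K.1 hg _)
  have hu : g * E.z * g⁻¹ ∈ E.A := E.mem_N_conj hgN E.z_mem
  have hmem : E.z * (g * E.z * g⁻¹) ∈ E.K := by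
    have e : E.z * (g * E.z * g⁻¹) = (E.z * g * E.z⁻¹) * g⁻¹ := by
      rw [inv_eq_of_mul_eq_one_right E.z_inv.2]; group
    rw [e]
    exact E.K.mul_mem (E.K_normal.conj_mem g hg _) (E.K.inv_mem hg)
  have hsq : E.z * (g * E.z * g⁻¹) * (E.z * (g * E.z * g⁻¹)) = 1 := by
    rw [(E.A_comm hu E.z_mem).mul_mul_mul_comm, E.z_inv.2, (inv_conj E.z_inv g).2, mul_one]
  obtain ⟨b, hb⟩ := E.exists_ne_pt
  have h1 : E.z * (g * E.z * g⁻¹) = 1 := by
    by_contra h
    exact hb ((E.fix_exists_unique ⟨h, hsq⟩).unique (E.mem_K.1 hmem b) (E.mem_K.1 hmem _))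
  rw [mul_eq_one_iff_eq_inv, _root_.conj_inv, inv_eq_of_mul_eq_one_right E.z_inv.2] at h1
  exact E.mem_A.2 (mul_inv_eq_iff_eq_mul.1 h1.symm)

theorem K_comm_inv {x t : G} (hx : x ∈ E.K) (ht : Inv t) : Commute x t := by
  obtain ⟨c, hc, -⟩ := E.fix_exists_unique ht
  obtain ⟨g, rfl⟩ := E.exists_smul_pt c
  have h1 : g⁻¹ * x * g ∈ E.A := E.K_le_A (by simpa using E.K_normal.conj_mem x hx g⁻¹)
  have h2 := E.A_comm h1 (E.inv_fix ht hc).1
  have h3 := (Commute.conj_iff g⁻¹).1 (show Commute (g⁻¹ * x * g⁻¹⁻¹) (g⁻¹ * t * g⁻¹⁻¹) by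
    rwa [inv_inv])
  exact h3

theorem K_le_center : E.K ≤ Subgroup.center G := by
  intro x hx
  obtain ⟨b, hb⟩ := E.exists_ne_pt
  obtain ⟨s, hs⟩ := E.exists_swap hb
  have hN : ∀ g ∈ E.N, Commute x g := by
    intro g hg
    obtain ⟨t, ht, hA⟩ := E.exists_T_decomp hb hs hg
    have h1 : Commute x (s * t) := (E.K_comm_inv hx hs.1).mul_right (E.K_comm_inv hx ht.1)
    have h2 := h1.mul_right (E.A_comm (E.K_le_A hx) hA)
    rwa [mul_inv_cancel_left] at h2
  refine Subgroup.mem_center_iff.2 fun g => ?_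
  rcases eq_or_ne (g • E.pt) E.pt with h | h
  · exact (hN g (E.stab_pt.1 h)).eq.symm
  · obtain ⟨t, ht⟩ := E.exists_swap h
    have h1 : Commute x (t * g) := hN _ (E.stab_pt.1 (by rw [mul_smul, E.T_back ht]))
    have h2 := (E.K_comm_inv hx ht.1).mul_right h1
    rw [← mul_assoc, ht.1.2, one_mul] at h2
    exact h2.eq.symm

theorem K_commute {x : G} (hx : x ∈ E.K) (g : G) : Commute g x :=
  Subgroup.mem_center_iff.1 (E.K_le_center hx) g

/-- `A` is transitive on the points other than the base point. -/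
def Good : Prop := ∀ b c : G ⧸ E.N, b ≠ E.pt → c ≠ E.pt → ∃ x ∈ E.A, x • b = c

variable {E}

theorem mem_K_of_fix (hG : E.Good) {b : G ⧸ E.N} (hb : b ≠ E.pt) {x : G} (hx : x ∈ E.A)
    (hxb : x • b = b) : x ∈ E.K := by
  refine E.mem_K.2 fun c => ?_
  rcases eq_or_ne c E.pt with rfl | hc
  · exact E.stab_pt.2 (E.A_le_N hx)
  · obtain ⟨a, ha, rfl⟩ := hG b c hb hc
    rw [← mul_smul, (E.A_comm hx ha).eq, mul_smul, hxb]

theorem D₀_eq_K (hG : E.Good) {b : G ⧸ E.N} (hb : b ≠ E.pt) : E.D₀ b = E.K :=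
  le_antisymm (fun _ hx => mem_K_of_fix hG hb hx.2 hx.1.2)
    fun _ hx => ⟨E.mem_D.2 ⟨E.mem_K.1 hx _, E.mem_K.1 hx _⟩, E.K_le_A hx⟩

theorem card_omega_index (hG : E.Good) :
    Nat.card (G ⧸ E.N) = (E.K.subgroupOf E.A).index + 1 := by
  obtain ⟨b, hb⟩ := E.exists_ne_pt
  have hst : MulAction.stabilizer E.A b = E.K.subgroupOf E.A := by
    ext x
    exact ⟨fun h => Subgroup.mem_subgroupOf.2 (mem_K_of_fix hG hb x.2 h),
      fun h => E.mem_K.1 (Subgroup.mem_subgroupOf.1 h) b⟩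
  have horb : MulAction.orbit E.A b = {c : G ⧸ E.N | c ≠ E.pt} := by
    ext c
    constructor
    · rintro ⟨x, rfl⟩ h
      exact hb (smul_left_cancel (x : G) (h.trans (E.stab_pt.2 (E.A_le_N x.2)).symm))
    · intro hc
      obtain ⟨x, hx, rfl⟩ := hG b c hb hc
      exact ⟨⟨x, hx⟩, rfl⟩
  rw [← hst, MulAction.index_stabilizer, horb]
  have := Fintype.ofFinite (G ⧸ E.N)
  classical
  rw [← Nat.card_coe_set_eq, Nat.card_eq_fintype_card, Nat.card_eq_fintype_card]
  have h0 : 0 < Fintype.card (G ⧸ E.N) := Fintype.card_pos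
  have h1 : Fintype.card {c : G ⧸ E.N // c ≠ E.pt} = Fintype.card (G ⧸ E.N) - 1 := by
    rw [Fintype.card_subtype_compl, Fintype.card_subtype_eq]
  simp only [Set.coe_setOf]
  omega

/-- Every element of `D c` is inverted modulo `K` by an involution of `T c`. -/
theorem exists_invert_mod (hG : E.Good) {c : G ⧸ E.N} (hc : c ≠ E.pt) {j : G} (hj : j ∈ E.D c) :
    ∃ t ∈ E.T c, t * j * t⁻¹ * j ∈ E.K := by
  obtain ⟨s, hs⟩ := E.exists_swap hc
  obtain ⟨u, hu, hA⟩ := E.exists_T_decomp hc hs (E.D_le_N c hj)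
  have hz : (s * u)⁻¹ * j ∈ E.K := mem_K_of_fix hG hc hA
    (((E.D c).mul_mem ((E.D c).inv_mem (E.mul_mem_D hs hu)) hj).2)
  refine ⟨s, hs, ?_⟩
  generalize hw : (s * u)⁻¹ * j = w at hz
  have hj' : j = (s * u) * w := by rw [← hw]; group
  have e : s * j * s⁻¹ * j = w * w := by
    rw [hj']
    calc s * (s * u * w) * s⁻¹ * (s * u * w)
        = (s * (s * u) * s⁻¹) * (s * w * s⁻¹) * ((s * u) * w) := by group
      _ = (s * u)⁻¹ * w * ((s * u) * w) := by
        rw [E.T_inverts hs hu, (E.K_commute hz s).eq, mul_inv_cancel_right]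
      _ = w * w := by rw [(E.K_commute hz _).eq]; group
  rw [e]
  exact E.K.mul_mem hz hz

theorem fix3 (hG : E.Good) {b c : G ⧸ E.N} (hb : b ≠ E.pt) (hc : c ≠ E.pt) (hbc : b ≠ c) {g : G}
    (hg : g ∈ E.D b) (hgc : g • c = c) : g ∈ E.K := by
  obtain ⟨s, hs⟩ := E.exists_swap hb
  obtain ⟨t₀, ht₀, hA⟩ := E.exists_T_decomp hb hs (E.D_le_N b hg)
  have hjD := E.mul_mem_D hs ht₀
  have hz : (s * t₀)⁻¹ * g ∈ E.K :=
    mem_K_of_fix hG hb hA ((E.D b).mul_mem ((E.D b).inv_mem hjD) hg).2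
  have hsj := E.T_inverts hs ht₀
  generalize hj : s * t₀ = j at hA hjD hz hsj
  suffices hjA : j ∈ E.A by
    have hj1 : j = 1 := E.D_A_inverted hb hjD hjA hs.1 hsj
    rw [hj1, inv_one, one_mul] at hz
    exact hz
  have hjc : j • c = c := by
    have h := E.mem_K.1 hz c
    rw [mul_smul, hgc, inv_smul_eq_iff] at h
    exact h.symm
  obtain ⟨t, ht, htj⟩ := exists_invert_mod hG hc (E.mem_D.2 ⟨hjD.1, hjc⟩)
  generalize hκ : t * j * t⁻¹ * j = κ at htj
  have h1 : t * j * t⁻¹ = κ * j⁻¹ := by rw [← hκ]; group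
  have h2 : s * j⁻¹ * s⁻¹ = j := by rw [← _root_.conj_inv, hsj, inv_inv]
  have hy : (s * t) * j * (s * t)⁻¹ = κ * j := by
    calc (s * t) * j * (s * t)⁻¹ = s * (t * j * t⁻¹) * s⁻¹ := by group
      _ = (s * κ * s⁻¹) * (s * j⁻¹ * s⁻¹) := by rw [h1]; group
      _ = κ * j := by rw [h2, (E.K_commute htj s).eq, mul_inv_cancel_right]
  generalize hyst : s * t = y at hy
  by_contra hjA
  rcases eq_or_ne (y • E.pt) E.pt with hypt | hypt
  · rw [← hyst, mul_smul, ht.2] at hypt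
    have : c = b := by
      rw [← hs.2]
      calc c = s • (s • c) := by rw [smul_smul, hs.1.2, one_smul]
        _ = s • E.pt := by rw [hypt]
    exact hbc this.symm
  · have hjy : j • (y • E.pt) = y • E.pt := by
      have e : j * y = y * (κ⁻¹ * j) := by
        have e1 : y * j = κ * j * y := by rw [← hy]; group
        calc j * y = κ⁻¹ * (κ * j * y) := by group
          _ = κ⁻¹ * (y * j) := by rw [e1]
          _ = y * (κ⁻¹ * j) := by rw [← mul_assoc, ← mul_assoc, (E.K_commute (E.K.inv_mem htj) y).eq]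
      rw [← mul_smul, e, mul_smul, mul_smul, hjD.1, E.mem_K.1 (E.K.inv_mem htj)]
    obtain ⟨t', ht', ht'j⟩ := exists_invert_mod hG hypt (E.mem_D.2 ⟨hjD.1, hjy⟩)
    have hgN : t' * y ∈ E.N := E.stab_pt.1 (by rw [mul_smul, E.T_back ht'])
    have hjN : j ∈ E.N := E.stab_pt.1 hjD.1
    have h3 : (t' * y) * j * (t' * y)⁻¹ * j = κ * (t' * j * t'⁻¹ * j) := by
      calc (t' * y) * j * (t' * y)⁻¹ * j = t' * (y * j * y⁻¹) * t'⁻¹ * j := by group
        _ = (t' * κ * t'⁻¹) * (t' * j * t'⁻¹ * j) := by rw [hy]; group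
        _ = κ * (t' * j * t'⁻¹ * j) := by rw [(E.K_commute htj t').eq, mul_inv_cancel_right]
    have hA' : (t' * y) * j * (t' * y)⁻¹ * j ∈ E.A := h3 ▸ E.K_le_A (E.K.mul_mem htj ht'j)
    have h4 := eq_one_of_inverted E.odd_Nbar
      (a := QuotientGroup.mk' (E.A.subgroupOf E.N) ⟨_, hgN⟩)
      (b := QuotientGroup.mk' (E.A.subgroupOf E.N) ⟨j, hjN⟩) (by
      rw [eq_inv_iff_mul_eq_one, ← map_inv, ← map_mul, ← map_mul, ← map_mul, QuotientGroup.mk'_apply,
        QuotientGroup.eq_one_iff, Subgroup.mem_subgroupOf]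
      exact hA')
    exact hjA (Subgroup.mem_subgroupOf.1 ((QuotientGroup.eq_one_iff _).1 h4))

/-- The permutation representation. -/
abbrev perm (E : Setup G) : G →* Equiv.Perm (G ⧸ E.N) := MulAction.toPermHom G (G ⧸ E.N)

theorem perm_eq_one {g : G} : E.perm g = 1 ↔ g ∈ E.K := MonoidHom.mem_ker.symm

theorem pretransitive2 (hG : E.Good) : IsMultiplyPretransitive E.perm.range (G ⧸ E.N) 2 := by
  refine MulAction.is_two_pretransitive_iff.2 ?_
  intro a b c d hab hcd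
  have key : ∀ x y : G ⧸ E.N, x ≠ y → ∀ b₀ : G ⧸ E.N, b₀ ≠ E.pt →
      ∃ g : G, g • E.pt = x ∧ g • b₀ = y := by
    intro x y hxy b₀ hb₀
    obtain ⟨g, rfl⟩ := E.exists_smul_pt x
    have hy : g⁻¹ • y ≠ E.pt := fun h => hxy (inv_smul_eq_iff.1 h).symm
    obtain ⟨u, hu, huy⟩ := hG b₀ (g⁻¹ • y) hb₀ hy
    exact ⟨g * u, by rw [mul_smul, E.stab_pt.2 (E.A_le_N hu)],
      by rw [mul_smul, huy, smul_inv_smul]⟩
  obtain ⟨b₀, hb₀⟩ := E.exists_ne_pt
  obtain ⟨g, rfl, rfl⟩ := key a b hab b₀ hb₀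
  obtain ⟨h, rfl, rfl⟩ := key c d hcd b₀ hb₀
  exact ⟨⟨E.perm (h * g⁻¹), h * g⁻¹, rfl⟩, show (h * g⁻¹) • g • E.pt = h • E.pt by
    rw [mul_smul, inv_smul_smul], show (h * g⁻¹) • g • b₀ = h • b₀ by
    rw [mul_smul, inv_smul_smul]⟩

theorem zassenhaus (hG : E.Good) : Cfsg.IsZassenhausGroup E.perm.range (G ⧸ E.N) := by
  obtain ⟨b, hb⟩ := E.exists_ne_pt
  refine ⟨inferInstance, pretransitive2 hG, ?_, ?_, ?_⟩
  · rintro ⟨_, g, rfl⟩ a b c hab hbc hac ha hb' hc
    obtain ⟨h, rfl⟩ := E.exists_smul_pt a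
    replace ha : g • h • E.pt = h • E.pt := ha
    replace hb' : g • b = b := hb'
    replace hc : g • c = c := hc
    have hfix : ∀ w : G ⧸ E.N, g • w = w → (h⁻¹ * g * h) • (h⁻¹ • w) = h⁻¹ • w := fun w hw => by
      rw [mul_smul, mul_smul, smul_inv_smul, hw]
    have hK : h⁻¹ * g * h ∈ E.K := fix3 hG (fun e => hab (inv_smul_eq_iff.1 e).symm)
      (fun e => hac (inv_smul_eq_iff.1 e).symm) (fun e => hbc (smul_left_cancel _ e))
      (E.mem_D.2 ⟨by rw [mul_smul, mul_smul, ha, inv_smul_smul], hfix b hb'⟩) (hfix c hc)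
    refine Subtype.ext ?_
    show E.perm g = 1
    rw [perm_eq_one]
    have := E.K_normal.conj_mem _ hK h
    rwa [show h * (h⁻¹ * g * h) * h⁻¹ = g by group] at this
  · obtain ⟨s, hs⟩ := E.exists_swap hb
    haveI : Nontrivial (E.T b) := Finite.one_lt_card_iff_nontrivial.1 (by
      rw [E.card_T hb]; exact E.two_le_k)
    obtain ⟨⟨t, ht⟩, htne⟩ := exists_ne (⟨s, hs⟩ : E.T b)
    have hd := E.mul_mem_D hs ht
    refine ⟨⟨E.perm (s * t), _, rfl⟩, fun e => htne (Subtype.ext ?_), E.pt, b, hb.symm, hd.1, hd.2⟩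
    exact (E.T_eq_of_mem_A hb hs ht (E.K_le_A (perm_eq_one.1 (congrArg Subtype.val e)))).symm
  · intro M hM hpre
    refine ⟨E.pt, fun hreg => ?_⟩
    -- an element of `M` fixed under conjugation by an involution `u` fixes the fixed point of `u`
    have hfixM : ∀ m ∈ M, ∀ c : G ⧸ E.N, (m : Equiv.Perm (G ⧸ E.N)) c = c → m = 1 := by
      intro m hm c hc
      obtain ⟨m', hm'⟩ := hpre.exists_smul_eq E.pt c
      have hconj : (m'.1)⁻¹ * m * m'.1 ∈ M := by simpa using hM.conj_mem m hm (m'.1)⁻¹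
      have h1 : (⟨_, hconj⟩ : M) ∈ MulAction.stabilizer M E.pt := by
        show ((m'.1)⁻¹ * m * m'.1) • E.pt = E.pt
        rw [mul_smul, mul_smul]
        have : m'.1 • E.pt = c := hm'
        rw [this, show m • c = c from hc, inv_smul_eq_iff]
        exact this.symm
      have h2 : (m'.1)⁻¹ * m * m'.1 = 1 :=
        congrArg Subtype.val (Subgroup.mem_bot.1 (SetLike.le_def.1 hreg.le h1))
      have h3 : m = m'.1 * ((m'.1)⁻¹ * m * m'.1) * (m'.1)⁻¹ := by group
      rw [h3, h2, mul_one, mul_inv_cancel]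
    -- every involution of `A` inverts `M`
    have hinv : ∀ u ∈ E.invs, ∀ m ∈ M, (⟨E.perm u, u, rfl⟩ : E.perm.range) * m *
        (⟨E.perm u, u, rfl⟩ : E.perm.range)⁻¹ = m⁻¹ := by
      intro u hu m hm
      let ū : E.perm.range := ⟨E.perm u, u, rfl⟩
      let f : M → M := fun m => ⟨ū * m.1 * ū⁻¹, hM.conj_mem _ m.2 ū⟩
      have hu2 : ū * ū = 1 := Subtype.ext (show E.perm u * E.perm u = 1 by
        rw [← map_mul, hu.2.2, map_one])
      have hfhom : ∀ a c : M, f (a * c) = f a * f c := fun a c => Subtype.ext (by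
        show ū * (a.1 * c.1) * ū⁻¹ = (ū * a.1 * ū⁻¹) * (ū * c.1 * ū⁻¹)
        group)
      have hff : ∀ a, f (f a) = a := fun a => Subtype.ext (by
        show ū * (ū * a.1 * ū⁻¹) * ū⁻¹ = a.1
        rw [show ū * (ū * a.1 * ū⁻¹) * ū⁻¹ = (ū * ū) * a.1 * (ū * ū)⁻¹ by group, hu2, one_mul,
          inv_one, mul_one])
      have hfp : MonoidHom.FixedPointFree (MonoidHom.mk' f hfhom) := by
        intro a ha
        refine Subtype.ext (hfixM a.1 a.2 E.pt ?_)
        have hc : Commute ū a.1 := mul_inv_eq_iff_eq_mul.1 (congrArg Subtype.val ha)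
        have hu1 : u • E.pt = E.pt := E.stab_pt.2 (E.A_le_N hu.1)
        have h1 : u • ((a.1 : Equiv.Perm (G ⧸ E.N)) E.pt) = (a.1 : Equiv.Perm (G ⧸ E.N)) E.pt := by
          have := Equiv.congr_fun (congrArg Subtype.val hc.eq) E.pt
          show u • _ = _
          rw [show ((ū * a.1 : E.perm.range) : Equiv.Perm (G ⧸ E.N)) E.pt =
            u • ((a.1 : Equiv.Perm (G ⧸ E.N)) E.pt) from rfl] at this
          rw [this]
          show (a.1 : Equiv.Perm (G ⧸ E.N)) (u • E.pt) = _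
          rw [hu1]
        exact (E.fix_exists_unique hu.2).unique h1 hu1
      exact congrArg Subtype.val (congrFun (hfp.coe_eq_inv_of_involutive hff) ⟨m, hm⟩)
    obtain ⟨w, hw, hwz, hne⟩ := E.two
    have hwA : w ∈ E.A := E.mem_A.2 hwz
    obtain ⟨m, hm⟩ := hpre.exists_smul_eq E.pt b
    let zb : E.perm.range := ⟨E.perm E.z, E.z, rfl⟩
    let wb : E.perm.range := ⟨E.perm w, w, rfl⟩
    have h1 : zb * m.1 * zb⁻¹ = m.1⁻¹ := hinv E.z ⟨E.z_mem, E.z_inv⟩ m.1 m.2
    have h2 : wb * m.1 * wb⁻¹ = m.1⁻¹ := hinv w ⟨hwA, hw⟩ m.1 m.2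
    have h3 : Commute (wb⁻¹ * zb) m.1 := by
      refine mul_inv_eq_iff_eq_mul.1 ?_
      calc (wb⁻¹ * zb) * m.1 * (wb⁻¹ * zb)⁻¹ = wb⁻¹ * (zb * m.1 * zb⁻¹) * wb := by group
        _ = wb⁻¹ * (wb * m.1 * wb⁻¹) * wb := by rw [h1, h2]
        _ = m.1 := by group
    have hpt : (w⁻¹ * E.z) • E.pt = E.pt :=
      E.stab_pt.2 (E.N.mul_mem (inv_mem (E.A_le_N hwA)) (E.A_le_N E.z_mem))
    have hfix : (w⁻¹ * E.z) • b = b := by
      have h4 := Equiv.congr_fun (congrArg Subtype.val h3.eq) E.pt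
      have hm' : (m.1 : Equiv.Perm (G ⧸ E.N)) E.pt = b := hm
      have h5 : (w⁻¹ * E.z) • (m.1 : Equiv.Perm (G ⧸ E.N)) E.pt =
          (m.1 : Equiv.Perm (G ⧸ E.N)) ((w⁻¹ * E.z) • E.pt) := by
        have e : ((wb⁻¹ * zb : E.perm.range) : Equiv.Perm (G ⧸ E.N)) = E.perm (w⁻¹ * E.z) := by
          rw [map_mul, map_inv]; rfl
        rw [Subgroup.coe_mul, Subgroup.coe_mul _ m.1, e] at h4
        exact h4
      rw [hpt, hm'] at h5
      exact h5
    have hwz1 : w⁻¹ * E.z = 1 := by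
      refine E.D_ne_inv hb (E.mem_D.2 ⟨hpt, hfix⟩) ?_
      rw [inv_eq_of_mul_eq_one_right hw.2, (E.A_comm E.z_mem hwA).mul_mul_mul_comm, hw.2,
        E.z_inv.2, mul_one]
    exact hne (inv_mul_eq_one.1 hwz1)

theorem card_D_range (hG : E.Good) {b : G ⧸ E.N} (hb : b ≠ E.pt) :
    Nat.card ↥(stabilizer E.perm.range E.pt ⊓ stabilizer E.perm.range b) = E.k := by
  let f : E.D b →* ↥(stabilizer E.perm.range E.pt ⊓ stabilizer E.perm.range b) :=
    { toFun := fun x => ⟨⟨E.perm x, x, rfl⟩, x.2.1, x.2.2⟩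
      map_one' := Subtype.ext (Subtype.ext (map_one E.perm))
      map_mul' := fun x y => Subtype.ext (Subtype.ext (map_mul E.perm (x : G) y)) }
  have hsurj : Function.Surjective f := by
    rintro ⟨⟨_, g, rfl⟩, h1, h2⟩
    exact ⟨⟨g, h1, h2⟩, rfl⟩
  have hker : f.ker = (E.D₀ b).subgroupOf (E.D b) := by
    ext x
    rw [MonoidHom.mem_ker, Subgroup.mem_subgroupOf, D₀_eq_K hG hb, ← perm_eq_one]
    exact ⟨fun h => congrArg (fun y => ((y.1 : E.perm.range) : Equiv.Perm (G ⧸ E.N))) h,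
      fun h => Subtype.ext (Subtype.ext h)⟩
  have h := f.ker.card_mul_index
  rw [Subgroup.index_ker, MonoidHom.range_eq_top.2 hsurj, Subgroup.card_top, hker,
    Nat.card_congr (Subgroup.subgroupOfEquivOfLe (inf_le_left : E.D₀ b ≤ E.D b)).toEquiv,
    E.card_D hb, mul_comm E.k] at h
  exact Nat.eq_of_mul_eq_mul_left Nat.card_pos h

theorem card_omega (hG : E.Good) : Nat.card (G ⧸ E.N) = E.k + 2 := by
  classical
  have := Fintype.ofFinite (G ⧸ E.N)
  obtain ⟨b, hb⟩ := E.exists_ne_pt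
  have hn := card_omega_index hG
  let H : Subgroup E.perm.range := E.A.map E.perm.rangeRestrict
  have hHcard : Nat.card H = (E.K.subgroupOf E.A).index := by
    have hker : (E.perm.rangeRestrict.comp E.A.subtype).ker = E.K.subgroupOf E.A := by
      ext x
      rw [MonoidHom.mem_ker, Subgroup.mem_subgroupOf, ← perm_eq_one]
      exact ⟨fun h => congrArg Subtype.val h, fun h => Subtype.ext h⟩
    rw [← hker, Subgroup.index_ker, MonoidHom.range_comp, Subgroup.range_subtype]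
  have hHcomm : ∀ u ∈ H, ∀ w ∈ H, u * w = w * u := by
    rintro _ ⟨u, hu, rfl⟩ _ ⟨w, hw, rfl⟩
    rw [← map_mul, (E.A_comm hu hw).eq, map_mul]
  have hfix : ∀ u ∈ H, u ≠ 1 → ∀ c : G ⧸ E.N, u • c = c → c = E.pt := by
    rintro _ ⟨u, hu, rfl⟩ hne c hc
    by_contra hcp
    exact hne (Subtype.ext (perm_eq_one.2 (mem_K_of_fix hG hcp hu hc)))
  have hbound := Zassenhaus.abelian_bound (zassenhaus hG) hb.symm H
    (by rintro _ ⟨u, hu, rfl⟩; exact E.stab_pt.2 (E.A_le_N hu))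
    (by rw [hHcard, ← Nat.card_eq_fintype_card, hn]) hfix hHcomm
  rw [card_D_range hG hb, ← Nat.card_eq_fintype_card, hn] at hbound
  have hdvd : E.k + 1 ∣ (E.K.subgroupOf E.A).index := by
    rw [← E.card_W, ← hHcard]
    let f : E.W →* H :=
      { toFun := fun w => ⟨E.perm.rangeRestrict w, Subgroup.mem_map_of_mem _ w.2.1⟩
        map_one' := Subtype.ext (map_one _)
        map_mul' := fun x y => Subtype.ext (map_mul E.perm.rangeRestrict (x : G) y) }
    refine Subgroup.card_dvd_of_injective f ((injective_iff_map_eq_one f).2 fun w hw => ?_)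
    have hw' : ((f w : E.perm.range) : Equiv.Perm (G ⧸ E.N)) = 1 := by rw [hw]; rfl
    have hK : (w : G) ∈ E.K := perm_eq_one.1 hw'
    refine Subtype.ext (E.D_ne_inv hb (E.mem_D.2 ⟨E.mem_K.1 hK _, E.mem_K.1 hK _⟩) w.2.2)
  obtain ⟨j, hj⟩ := hdvd
  have := E.two_le_k
  rcases j with _ | _ | j
  · rw [mul_zero] at hj
    exact absurd hj Subgroup.index_ne_zero_of_finite
  · rw [hn, hj, zero_add, mul_one]
  · rw [hj] at hbound
    nlinarith [show (E.k + 1) * (j + 1 + 1) ≤ 2 * E.k + 1 by omega]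

theorem exists_psl (hG : E.Good) : ∃ (F : Type) (_ : Field F) (_ : Fintype F) (f : ℕ)
    (χ : G →* Matrix.ProjectiveSpecialLinearGroup (Fin 2) F), 2 ≤ f ∧ Fintype.card F = 2 ^ f ∧
      Function.Surjective χ ∧ χ.ker = E.K := by
  classical
  have := Fintype.ofFinite (G ⧸ E.N)
  obtain ⟨b, hb⟩ := E.exists_ne_pt
  have hn := card_omega hG
  obtain ⟨f, hf⟩ := E.exists_card_W
  have hk2 := E.two_le_k
  have hf2 : 2 ≤ f := by
    rcases f with _ | _ | f
    · rw [pow_zero] at hf; omega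
    · rw [zero_add, pow_one] at hf; omega
    · omega
  obtain ⟨h3, hsharp⟩ := Zassenhaus.sharply_three_of_card (zassenhaus hG) hb.symm
    (by rw [card_D_range hG hb, hn]; omega)
  obtain ⟨F, iF, iFt, hF, ⟨e⟩⟩ := S0727.result (f := f) (by omega)
    (by rw [← Nat.card_eq_fintype_card, hn]; omega) E.perm.range h3 hsharp
  have hchar : ringChar F = 2 := FiniteField.even_card_iff_char_two.2 (by
    rw [hF, Nat.pow_mod, Nat.mod_self, zero_pow (by omega), Nat.zero_mod])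
  have hsurj : Function.Surjective
      (ProjectiveSpecialLinearGroup.toPGL : ProjectiveSpecialLinearGroup (Fin 2) F →* _) := by
    intro x
    obtain ⟨u, rfl⟩ := ProjGenLinGroup.mk_surjective x
    exact (PSL2.mk_mem_range_iff u).2 (FiniteField.isSquare_of_char_two hchar _)
  let ψ : E.perm.range ≃* ProjectiveSpecialLinearGroup (Fin 2) F :=
    e.trans (MulEquiv.ofBijective _ ⟨ProjectiveSpecialLinearGroup.toPGL_injective, hsurj⟩).symm
  refine ⟨F, iF, iFt, f, ψ.toMonoidHom.comp E.perm.rangeRestrict, hf2, hF,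
    ψ.surjective.comp E.perm.rangeRestrict_surjective, ?_⟩
  ext x
  rw [MonoidHom.mem_ker, MonoidHom.comp_apply]
  constructor
  · intro h
    exact perm_eq_one.1 (congrArg Subtype.val (ψ.injective (h.trans ψ.map_one.symm)))
  · intro h
    rw [show E.perm.rangeRestrict x = 1 from Subtype.ext (perm_eq_one.2 h), map_one]

end Setup

end Cfsg.Agent.AbelCent
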