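/-
Passing the hypotheses to subgroups and to central quotients.

* `Setup.sub`, `sub_trans`, `card_orbit` : a subgroup containing `W` and moving the base point
* `center_quotient`, `good_of_quotient` : the quotient by the centre
-/
import Cfsg.Agent.Lib.AbelCent.Good
import Cfsg.Agent.EqLemmas

set_option autoImplicit false

open MulAction

namespace Cfsg.Agent.AbelCent

open CAEven (Inv inv_conj conj_or_common)

variable {G : Type*} [Group G] [Finite G]

theorem inv_coe {X : Subgroup G} {t : X} : Inv (t : G) ↔ Inv t :=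
  ⟨fun h => ⟨fun e => h.1 (congrArg Subtype.val e), Subtype.ext h.2⟩,
    fun h => ⟨fun e => h.1 (Subtype.ext e), congrArg Subtype.val h.2⟩⟩

theorem commute_coe {X : Subgroup G} {a b : X} : Commute (a : G) b ↔ Commute a b :=
  ⟨fun h => Subtype.ext h.eq, fun h => congrArg Subtype.val h.eq⟩

/-- A subgroup of `G` containing the involutions of `A` and an element outside `N`. -/
def Setup.Big (E : Setup G) (X : Subgroup G) : Prop := E.W ≤ X ∧ ∃ g ∈ X, g ∉ E.N

namespace Setup

variable (E : Setup G)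

theorem Big.z_mem {X : Subgroup G} (h : E.Big X) : E.z ∈ X := h.1 ⟨E.z_mem, E.z_inv.2⟩

variable {E}

theorem Big.zpowers_two {X : Subgroup G} (h : E.Big X) :
    IsPGroup 2 (Subgroup.zpowers (⟨E.z, h.z_mem⟩ : X)) :=
  IsPGroup.of_card (n := 1) (by
    rw [Nat.card_zpowers, pow_one, orderOf_eq_prime (p := 2)
      (Subtype.ext (by rw [Subgroup.coe_pow, pow_two]; exact E.z_inv.2))
      fun e => E.z_inv.1 (congrArg Subtype.val e)])

/-- The hypotheses hold in `X`. -/
noncomputable def sub (E : Setup G) (X : Subgroup G) (h : E.Big X) : Setup X where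
  hab t x y ht hx hy := commute_coe.1
    (E.hab t x y (inv_coe.2 ht) (commute_coe.2 hx) (commute_coe.2 hy))
  S := (h.zpowers_two.exists_le_sylow).choose
  z := ⟨E.z, h.z_mem⟩
  z_inv := inv_coe.1 E.z_inv
  z_comm s hs := commute_coe.1 (E.commute_of_two
    (((h.zpowers_two.exists_le_sylow).choose).2.map X.subtype) ⟨s, hs, rfl⟩
    ⟨_, (h.zpowers_two.exists_le_sylow).choose_spec (Subgroup.mem_zpowers _), rfl⟩)
  Ntop htop := by
    obtain ⟨g, hgX, hgN⟩ := h.2
    refine hgN (E.ti E.z_inv E.z_mem (E.mem_A.2 ?_))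
    have hg : (⟨g, hgX⟩ : X) ∈ Subgroup.normalizer ((Subgroup.centralizer
        ({⟨E.z, h.z_mem⟩} : Set X) : Subgroup X) : Set X) := htop ▸ Subgroup.mem_top _
    have h1 := (Subgroup.mem_normalizer_iff.1 hg ⟨E.z, h.z_mem⟩).1
      (Subgroup.mem_centralizer_singleton_iff.2 rfl)
    exact commute_coe.2 (Subgroup.mem_centralizer_singleton_iff.1 h1)
  two := by
    obtain ⟨w, hw, hwz, hne⟩ := E.two
    exact ⟨⟨w, h.1 ⟨E.mem_A.2 hwz, hw.2⟩⟩, inv_coe.1 hw, commute_coe.1 hwz,
      fun e => hne (congrArg Subtype.val e)⟩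

theorem sub_z {X : Subgroup G} (h : E.Big X) : ((E.sub X h).z : G) = E.z := rfl

theorem sub_mem_A {X : Subgroup G} (h : E.Big X) {x : X} :
    x ∈ (E.sub X h).A ↔ (x : G) ∈ E.A :=
  ((E.sub X h).mem_A.trans commute_coe.symm).trans E.mem_A.symm

theorem sub_mem_N {X : Subgroup G} (h : E.Big X) {g : X} :
    g ∈ (E.sub X h).N ↔ (g : G) ∈ E.N := by
  constructor
  · intro hg
    exact E.ti E.z_inv E.z_mem ((sub_mem_A h (x := g * (E.sub X h).z * g⁻¹)).1
      ((E.sub X h).mem_N_conj hg (E.sub X h).z_mem))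
  · intro hg
    refine (E.sub X h).ti (E.sub X h).z_inv (E.sub X h).z_mem ((sub_mem_A h).2 ?_)
    exact E.mem_N_conj hg E.z_mem

theorem sub_k {X : Subgroup G} (h : E.Big X) : (E.sub X h).k = E.k :=
  Nat.card_congr
    { toFun := fun t => ⟨(t.1 : G), (sub_mem_A h).1 t.2.1, inv_coe.2 t.2.2⟩
      invFun := fun t => ⟨⟨t.1, h.1 ⟨t.2.1, t.2.2.2⟩⟩, (sub_mem_A h).2 t.2.1, inv_coe.1 t.2.2⟩
      left_inv := fun _ => rfl
      right_inv := fun _ => rfl }

/-- The orbit map from the cosets in `X`. -/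
noncomputable def orbitMap {X : Subgroup G} (h : E.Big X) : X ⧸ (E.sub X h).N → G ⧸ E.N :=
  fun q => Quotient.liftOn' q (fun x : X => (x : G) • E.pt) fun x y hxy => by
    rw [QuotientGroup.leftRel_apply, sub_mem_N h] at hxy
    have h1 := E.stab_pt.2 hxy
    rw [Subgroup.coe_mul, Subgroup.coe_inv, mul_smul, inv_smul_eq_iff] at h1
    exact h1.symm

theorem orbitMap_smul {X : Subgroup G} (h : E.Big X) (x : X) (c : X ⧸ (E.sub X h).N) :
    orbitMap h (x • c) = (x : G) • orbitMap h c := by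
  refine Quotient.inductionOn' c fun y => ?_
  show ((x * y : X) : G) • E.pt = (x : G) • (y : G) • E.pt
  rw [Subgroup.coe_mul, mul_smul]

theorem orbitMap_injective {X : Subgroup G} (h : E.Big X) : Function.Injective (orbitMap h) := by
  intro a b
  refine Quotient.inductionOn₂' a b fun x y hxy => ?_
  refine QuotientGroup.eq.2 ((sub_mem_N h).2 (E.stab_pt.1 ?_))
  have hxy' : (x : G) • E.pt = (y : G) • E.pt := hxy
  rw [Subgroup.coe_mul, Subgroup.coe_inv, mul_smul, inv_smul_eq_iff]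
  exact hxy'.symm

theorem orbitMap_pt {X : Subgroup G} (h : E.Big X) : orbitMap h (E.sub X h).pt = E.pt := by
  show ((1 : X) : G) • E.pt = E.pt
  rw [Subgroup.coe_one, one_smul]

theorem range_orbitMap {X : Subgroup G} (h : E.Big X) :
    Set.range (orbitMap h) = {c | ∃ g ∈ X, g • E.pt = c} := by
  ext c
  constructor
  · rintro ⟨q, rfl⟩
    exact Quotient.inductionOn' q fun x => ⟨x, x.2, rfl⟩
  · rintro ⟨g, hg, rfl⟩
    exact ⟨QuotientGroup.mk ⟨g, hg⟩, rfl⟩

/-- Transitivity of `A ∩ X` on the moved cosets of `N` in `X`. -/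
theorem sub_trans {X : Subgroup G} (h : E.Big X) (hG : (E.sub X h).Good) {g g' : G} (hg : g ∈ X)
    (hg' : g' ∈ X) (h1 : g • E.pt ≠ E.pt) (h2 : g' • E.pt ≠ E.pt) :
    ∃ x ∈ E.A, x • (g • E.pt) = g' • E.pt := by
  obtain ⟨x, hx, hxe⟩ := hG (QuotientGroup.mk ⟨g, hg⟩) (QuotientGroup.mk ⟨g', hg'⟩)
    (fun e => h1 ((congrArg (orbitMap h) e).trans (orbitMap_pt h)))
    (fun e => h2 ((congrArg (orbitMap h) e).trans (orbitMap_pt h)))
  refine ⟨x, (sub_mem_A h).1 hx, ?_⟩
  have h3 := congrArg (orbitMap h) hxe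
  rw [orbitMap_smul] at h3
  exact h3

theorem card_orbit {X : Subgroup G} (h : E.Big X) (hG : (E.sub X h).Good) :
    Nat.card {c : G ⧸ E.N // ∃ g ∈ X, g • E.pt = c} = E.k + 2 := by
  have := Nat.card_range_of_injective (orbitMap_injective h)
  rw [range_orbitMap h, card_omega hG, sub_k h] at this
  exact this

/-! ### The centre -/

variable (E)

theorem center_le_A : Subgroup.center G ≤ E.A := fun _ hx =>
  E.mem_A.2 (Subgroup.mem_center_iff.1 hx E.z).symm

theorem odd_center (E : Setup G) : Odd (Nat.card (Subgroup.center G)) := by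
  by_contra hev
  rw [Nat.not_odd_iff_even, even_iff_two_dvd] at hev
  haveI : Fact (Nat.Prime 2) := ⟨Nat.prime_two⟩
  obtain ⟨d, hd⟩ := exists_prime_orderOf_dvd_card' 2 hev
  have hd1 : (d : G) ≠ 1 := fun e => by
    rw [← Subgroup.orderOf_coe, e, orderOf_one] at hd; omega
  have hd2 := pow_orderOf_eq_one (d : G)
  rw [Subgroup.orderOf_coe, hd, pow_two] at hd2
  obtain ⟨c, hc, hu⟩ := E.fix_exists_unique ⟨hd1, hd2⟩
  obtain ⟨b, hb⟩ := E.exists_ne_pt
  have key : ∀ g : G, g • c = c := fun g => hu _ (by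
    show (d : G) • g • c = g • c
    rw [← mul_smul, ← Subgroup.mem_center_iff.1 d.2 g, mul_smul, hc])
  obtain ⟨g, rfl⟩ := E.exists_smul_pt c
  have h1 : g • E.pt = E.pt := by
    have := key g⁻¹
    rwa [inv_smul_smul, eq_comm] at this
  obtain ⟨g', rfl⟩ := E.exists_smul_pt b
  refine hb ?_
  have := key g'
  rwa [h1] at this

theorem center_eq_one_of_sq (E : Setup G) {x : G} (hx : x ∈ Subgroup.center G) (h : x * x = 1) : x = 1 := by
  have h1 := congrArg Subtype.val (pow_card_eq_one' (x := (⟨x, hx⟩ : Subgroup.center G)))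
  obtain ⟨j, hj⟩ := E.odd_center
  rw [hj] at h1
  change x ^ (2 * j + 1) = 1 at h1
  rwa [pow_succ, pow_mul, pow_two, h, one_pow, one_mul] at h1

/-- Commuting with an involution lifts from the central quotient. -/
theorem commute_lift (E : Setup G) {x t : G} (ht : Inv t)
    (h : Commute (QuotientGroup.mk x : G ⧸ Subgroup.center G) (QuotientGroup.mk t)) : Commute x t := by
  have h1 : x * t * x⁻¹ * t⁻¹ ∈ Subgroup.center G := by
    rw [← QuotientGroup.eq_one_iff, QuotientGroup.mk_mul, QuotientGroup.mk_mul, QuotientGroup.mk_mul,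
      QuotientGroup.mk_inv, QuotientGroup.mk_inv, h.eq]
    group
  generalize hζ : x * t * x⁻¹ * t⁻¹ = ζ at h1
  have e : x * t * x⁻¹ = ζ * t := by rw [← hζ]; group
  have hsq : ζ * ζ = 1 := by
    have h2 := (inv_conj ht x).2
    rwa [e, show ζ * t * (ζ * t) = ζ * (t * ζ) * t by group, Subgroup.mem_center_iff.1 h1 t,
      ← mul_assoc, mul_assoc, ht.2, mul_one] at h2
  rw [E.center_eq_one_of_sq h1 hsq, one_mul] at e
  exact mul_inv_eq_iff_eq_mul.1 e

theorem inv_lift (E : Setup G) {q : G ⧸ Subgroup.center G} (hq : Inv q) :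
    ∃ t : G, Inv t ∧ QuotientGroup.mk t = q := by
  obtain ⟨x, rfl⟩ := QuotientGroup.mk_surjective q
  have hx : x * x ∈ Subgroup.center G := by
    rw [← QuotientGroup.eq_one_iff, QuotientGroup.mk_mul]; exact hq.2
  obtain ⟨j, hj⟩ := E.odd_center
  have h1 := congrArg Subtype.val (pow_card_eq_one' (x := (⟨x * x, hx⟩ : Subgroup.center G)))
  rw [hj] at h1
  change (x * x) ^ (2 * j + 1) = 1 at h1
  rw [(Commute.refl x).mul_pow] at h1
  have hmk : (QuotientGroup.mk (x ^ (2 * j + 1)) : G ⧸ Subgroup.center G) = QuotientGroup.mk x := by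
    rw [QuotientGroup.mk_pow, pow_succ, pow_mul, pow_two, hq.2, one_pow, one_mul]
  refine ⟨_, ⟨fun e => hq.1 ?_, h1⟩, hmk⟩
  rw [← hmk, e, QuotientGroup.mk_one]

/-- The hypotheses hold in the central quotient. -/
noncomputable def centerQuotient : Setup (G ⧸ Subgroup.center G) where
  hab t x y ht hx hy := by
    obtain ⟨t, ht', rfl⟩ := E.inv_lift ht
    obtain ⟨x, rfl⟩ := QuotientGroup.mk_surjective x
    obtain ⟨y, rfl⟩ := QuotientGroup.mk_surjective y
    exact (E.hab t x y ht' (E.commute_lift ht' hx) (E.commute_lift ht' hy)).map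
      (QuotientGroup.mk' (Subgroup.center G))
  S := haveI : Fact (Nat.Prime 2) := ⟨Nat.prime_two⟩
    E.S.mapSurjective (QuotientGroup.mk'_surjective (Subgroup.center G))
  z := QuotientGroup.mk E.z
  z_inv := ⟨fun e => E.z_inv.1 (E.center_eq_one_of_sq ((QuotientGroup.eq_one_iff _).1 e) E.z_inv.2),
    by rw [← QuotientGroup.mk_mul, E.z_inv.2, QuotientGroup.mk_one]⟩
  z_comm s hs := by
    obtain ⟨s, hs, rfl⟩ := hs
    exact (E.z_comm s hs).map (QuotientGroup.mk' (Subgroup.center G))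
  Ntop htop := by
    refine E.Ntop (eq_top_iff.2 fun g _ => E.ti E.z_inv E.z_mem (E.mem_A.2 ?_))
    have hg := htop ▸ Subgroup.mem_top (QuotientGroup.mk g : G ⧸ Subgroup.center G)
    have h1 := (Subgroup.mem_normalizer_iff.1 hg (QuotientGroup.mk E.z)).1
      (Subgroup.mem_centralizer_singleton_iff.2 rfl)
    exact E.commute_lift E.z_inv (Subgroup.mem_centralizer_singleton_iff.1 h1)
  two := by
    obtain ⟨w, hw, hwz, hne⟩ := E.two
    refine ⟨QuotientGroup.mk w, ⟨fun e => hw.1 (E.center_eq_one_of_sq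
      ((QuotientGroup.eq_one_iff _).1 e) hw.2), by rw [← QuotientGroup.mk_mul, hw.2,
        QuotientGroup.mk_one]⟩, hwz.map (QuotientGroup.mk' (Subgroup.center G)), fun e => hne ?_⟩
    have h1 := QuotientGroup.eq.1 e
    rw [inv_eq_of_mul_eq_one_right hw.2] at h1
    have h2 := E.center_eq_one_of_sq h1 (by
      rw [hwz.symm.mul_mul_mul_comm, hw.2, E.z_inv.2, mul_one])
    rw [mul_eq_one_iff_eq_inv, inv_eq_of_mul_eq_one_right E.z_inv.2] at h2
    exact h2

theorem quotient_mem_A {x : G} :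
    (QuotientGroup.mk x : G ⧸ Subgroup.center G) ∈ E.centerQuotient.A ↔ x ∈ E.A :=
  E.centerQuotient.mem_A.trans ⟨fun h => E.mem_A.2 (E.commute_lift E.z_inv h),
    fun h => (E.mem_A.1 h).map (QuotientGroup.mk' (Subgroup.center G))⟩

theorem quotient_mem_N {g : G} :
    (QuotientGroup.mk g : G ⧸ Subgroup.center G) ∈ E.centerQuotient.N ↔ g ∈ E.N := by
  constructor
  · intro hg
    exact E.ti E.z_inv E.z_mem (E.quotient_mem_A.1
      (E.centerQuotient.mem_N_conj hg E.centerQuotient.z_mem))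
  · intro hg
    exact E.centerQuotient.ti E.centerQuotient.z_inv E.centerQuotient.z_mem
      (E.quotient_mem_A.2 (E.mem_N_conj hg E.z_mem))

theorem good_of_quotient (hG : E.centerQuotient.Good) : E.Good := by
  intro b c hb hc
  obtain ⟨g, rfl⟩ := E.exists_smul_pt b
  obtain ⟨g', rfl⟩ := E.exists_smul_pt c
  let π := QuotientGroup.mk' (Subgroup.center G)
  have hne : ∀ g : G, g • E.pt ≠ E.pt → π g • E.centerQuotient.pt ≠ E.centerQuotient.pt :=
    fun g hg h => hg (E.stab_pt.2 (E.quotient_mem_N.1 (E.centerQuotient.stab_pt.1 h)))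
  obtain ⟨x, hx, hxe⟩ := hG _ _ (hne g hb) (hne g' hc)
  obtain ⟨x, rfl⟩ := QuotientGroup.mk_surjective x
  refine ⟨x, E.quotient_mem_A.1 hx, ?_⟩
  have h1 : π (g'⁻¹ * (x * g)) • E.centerQuotient.pt = E.centerQuotient.pt := by
    rw [map_mul, map_mul, map_inv, mul_smul, mul_smul, inv_smul_eq_iff]
    exact hxe
  have h2 := E.stab_pt.2 (E.quotient_mem_N.1 (E.centerQuotient.stab_pt.1 h1))
  rw [mul_smul, mul_smul, inv_smul_eq_iff] at h2
  exact h2

end Setup

end Cfsg.Agent.AbelCent
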