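/-
The main step: with trivial intersections `A ∩ A^s ∩ D` and generation by involutions, `A` is
transitive on the points other than the base point.

* `exists_swap_normalizes` : a Sylow subgroup of `D c` is normalised by an involution of `T c`
* `fix_two`, `sylow_of_max` : for a suitable `p`-subgroup of a two-point stabiliser there are exactly
  two fixed points, and it is a Sylow subgroup of the whole group
* `good_of_coreTrivial` : a transfer argument at the least prime divisor of `k`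
-/
import Cfsg.Agent.Lib.AbelCent.Setup
import Cfsg.Agent.Lib.Coprime.Generation
import Cfsg.Agent.Lib.TwoFusion.Transfer
import Cfsg.Agent.EqLemmas

set_option autoImplicit false

open MulAction
open scoped IsMulCommutative

namespace Cfsg.Agent.AbelCent

open CAEven (Inv inv_conj conj_or_common)

variable {G : Type*} [Group G] [Finite G]

/-- An abelian 2-group without a second involution is cyclic. -/
theorem isCyclic_of_unique_inv {Q : Subgroup G} (hQ : IsPGroup 2 Q) [IsMulCommutative Q]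
    (huni : ∀ u v : G, u ∈ Q → v ∈ Q → Inv u → Inv v → u = v) : IsCyclic Q := by
  by_contra hc
  obtain ⟨p, hp, a, ha, b, hb, hap, hbp, hind⟩ :=
    Coprime.exists_pair_of_noncyclic_mod Q ⊥ bot_le fun g hg hle => by
      rw [bot_sup_eq] at hle
      exact hc (Subgroup.isCyclic_of_le hle)
  have ha1 : a ≠ 1 := fun h => hp.not_dvd_one (hind 1 0 (by rw [h]; simp)).1
  have hb1 : b ≠ 1 := fun h => hp.not_dvd_one (hind 0 1 (by rw [h]; simp)).2
  rw [Subgroup.mem_bot] at hap hbp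
  haveI : Fact p.Prime := ⟨hp⟩
  haveI : Fact (Nat.Prime 2) := ⟨Nat.prime_two⟩
  have hp2 : p = 2 := by
    have h1 : orderOf (⟨a, ha⟩ : Q) = p := by
      rw [Subgroup.orderOf_mk]; exact orderOf_eq_prime hap ha1
    obtain ⟨i, hi⟩ := IsPGroup.iff_orderOf.1 hQ ⟨a, ha⟩
    rw [h1] at hi
    exact (Nat.prime_dvd_prime_iff_eq hp Nat.prime_two).1 (hp.dvd_of_dvd_pow (dvd_of_eq hi))
  subst hp2
  rw [pow_two] at hap hbp
  have := huni a b ha hb ⟨ha1, hap⟩ ⟨hb1, hbp⟩
  exact absurd (hind 1 1 (by rw [pow_one, pow_one, ← this, hap]; exact one_mem _)).1 (by norm_num)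

namespace Setup

variable (E : Setup G)

theorem exists_swap_normalizes {c : G ⧸ E.N} (hc : c ≠ E.pt) {p : ℕ} [Fact p.Prime] {P : Subgroup G}
    (hPD : P ≤ E.D c) (hcard : Nat.card P = p ^ (Nat.card (E.D c)).factorization p) :
    ∃ t ∈ E.T c, t ∈ Subgroup.normalizer (P : Set G) := by
  obtain ⟨s, hs⟩ := E.exists_swap hc
  let P' : Sylow p (E.D c) := Sylow.ofCard (P.subgroupOf (E.D c)) (by
    rw [Nat.card_congr (Subgroup.subgroupOfEquivOfLe hPD).toEquiv, hcard])
  let Ps : Subgroup G := P.map (MulAut.conj s).toMonoidHom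
  have hPs : Ps ≤ E.D c := by
    rintro _ ⟨x, hx, rfl⟩
    exact E.T_conj_D hs (hPD hx)
  let P'' : Sylow p (E.D c) := Sylow.ofCard (Ps.subgroupOf (E.D c)) (by
    rw [Nat.card_congr (Subgroup.subgroupOfEquivOfLe hPs).toEquiv,
      Subgroup.card_map_of_injective (MulEquiv.injective _), hcard])
  obtain ⟨d, hd⟩ := MulAction.exists_smul_eq (E.D c) P'' P'
  have key : ∀ x ∈ P, (d : G) * (s * x * s⁻¹) * (d : G)⁻¹ ∈ P := by
    intro x hx
    have h1 : (⟨s * x * s⁻¹, hPs ⟨x, hx, rfl⟩⟩ : E.D c) ∈ (P'' : Subgroup (E.D c)) := ⟨x, hx, rfl⟩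
    have h2 : d * (⟨s * x * s⁻¹, hPs ⟨x, hx, rfl⟩⟩ : E.D c) * d⁻¹ ∈ ((d • P'' : Sylow p (E.D c)) :
        Subgroup (E.D c)) := by
      rw [Sylow.coe_subgroup_smul]
      exact ⟨_, h1, rfl⟩
    rw [hd] at h2
    exact h2
  let g : G := d * s
  have hgP : g ∈ Subgroup.normalizer (P : Set G) := by
    have hle : P.map (MulAut.conj g).toMonoidHom ≤ P := by
      rintro _ ⟨x, hx, rfl⟩
      show g * x * g⁻¹ ∈ P
      have : g * x * g⁻¹ = (d : G) * (s * x * s⁻¹) * (d : G)⁻¹ := by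
        show (d : G) * s * x * ((d : G) * s)⁻¹ = _
        group
      rw [this]
      exact key x hx
    exact Subgroup.mem_normalizer_iff_map_conj_eq.2 (Subgroup.eq_of_le_of_card_ge hle
      (Subgroup.card_map_of_injective (MulEquiv.injective _)).ge)
  have hg1 : g • E.pt = c := by
    show ((d : G) * s) • E.pt = c
    rw [mul_smul, hs.2]; exact d.2.2
  have hg2 : g • c = E.pt := by
    show ((d : G) * s) • c = E.pt
    rw [mul_smul, E.T_back hs]; exact d.2.1
  have hgg : g * g ∈ E.D c := E.mem_D.2 ⟨by rw [mul_smul, hg1, hg2], by rw [mul_smul, hg2, hg1]⟩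
  obtain ⟨j, hj⟩ := E.odd_D hc
  have hpow : (g * g) ^ (2 * j + 1) = 1 := by
    rw [← hj]
    exact congrArg Subtype.val (pow_card_eq_one' (x := (⟨g * g, hgg⟩ : E.D c)))
  have ht2 : g ^ (2 * j + 1) * g ^ (2 * j + 1) = 1 := by
    rw [← (Commute.refl g).mul_pow]; exact hpow
  have htc : g ^ (2 * j + 1) • E.pt = c := by
    rw [pow_succ, pow_mul, pow_two, mul_smul, hg1]
    exact ((E.D c).pow_mem hgg j).2
  exact ⟨g ^ (2 * j + 1), ⟨⟨fun h => hc (by rw [← htc, h, one_smul]), ht2⟩, htc⟩, pow_mem hgP _⟩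

/-- If an involution normalises a subgroup of odd order and both fix `g • pt`, the subgroup lies in
`g A g⁻¹`. -/
theorem le_conj_A {v g : G} {P : Subgroup G} (hv : Inv v) (hvc : v • (g • E.pt) = g • E.pt)
    (hvP : v ∈ Subgroup.normalizer (P : Set G)) (hPc : ∀ x ∈ P, x • (g • E.pt) = g • E.pt)
    (hodd : Odd (Nat.card P)) : ∀ x ∈ P, g⁻¹ * x * g ∈ E.A := by
  intro x hx
  have hu := E.inv_fix hv hvc
  have hy : g⁻¹ * x * g ∈ E.N := (E.fix_iff _ _).1 (hPc x hx)
  generalize hydef : g⁻¹ * x * g = y at hy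
  generalize hudef : g⁻¹ * v * g = u at hu
  have hvv : v⁻¹ = v := inv_eq_of_mul_eq_one_right hv.2
  have hw : v * x * v⁻¹ * x⁻¹ ∈ P :=
    P.mul_mem ((Subgroup.mem_normalizer_iff.1 hvP x).1 hx) (P.inv_mem hx)
  have he : g⁻¹ * (v * x * v⁻¹ * x⁻¹) * g = u * (y * u * y⁻¹) := by
    rw [← hydef, ← hudef, hvv]; group
  have hsq : u * (y * u * y⁻¹) * (u * (y * u * y⁻¹)) = 1 := by
    rw [(E.A_comm (E.mem_N_conj hy hu.1) hu.1).mul_mul_mul_comm, hu.2.2, (inv_conj hu.2 y).2, mul_one]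
  have hw2 : v * x * v⁻¹ * x⁻¹ * (v * x * v⁻¹ * x⁻¹) = 1 := by
    generalize hwdef : v * x * v⁻¹ * x⁻¹ = w at he hw ⊢
    have e : w = g * (g⁻¹ * w * g) * g⁻¹ := by group
    rw [e, he, conj_mul, hsq, mul_one, mul_inv_cancel]
  have hw1 : v * x * v⁻¹ * x⁻¹ = 1 := by
    generalize hwdef : v * x * v⁻¹ * x⁻¹ = w at hw hw2
    obtain ⟨j, hj⟩ := hodd
    have h := congrArg Subtype.val (pow_card_eq_one' (x := (⟨w, hw⟩ : P)))
    rw [hj] at h
    change w ^ (2 * j + 1) = 1 at h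
    rwa [pow_succ, pow_mul, pow_two, hw2, one_pow, one_mul] at h
  rw [hw1, mul_one, inv_mul_cancel] at he
  have h2 : y * u * y⁻¹ = u := by
    rw [eq_comm, mul_eq_one_iff_eq_inv] at he
    rw [← inv_inv (y * u * y⁻¹), ← he, inv_eq_of_mul_eq_one_right hu.2.2]
  exact (E.commute_iff hu.2 hu.1).1 (mul_inv_eq_iff_eq_mul.1 h2)

/-- A `p`-subgroup of `D b` outside `A`, swapped with each of its fixed points, fixes only two. -/
theorem fix_two {b : G ⧸ E.N} (hb : b ≠ E.pt) {P : Subgroup G} (hPD : P ≤ E.D b)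
    (hPA : ¬ P ≤ E.A)
    (hswap : ∀ c : G ⧸ E.N, c ≠ E.pt → (∀ x ∈ P, x • c = c) →
      ∃ t ∈ E.T c, t ∈ Subgroup.normalizer (P : Set G))
    {c : G ⧸ E.N} (hc : c ≠ E.pt) (hPc : ∀ x ∈ P, x • c = c) : c = b := by
  have hodd : Odd (Nat.card P) := (E.odd_D hb).of_dvd_nat (Subgroup.card_dvd_of_le hPD)
  -- no involution of the normaliser fixes a fixed point of `P`
  have hnofix : ∀ v : G, Inv v → v ∈ Subgroup.normalizer (P : Set G) → ∀ d : G ⧸ E.N,
      v • d = d → ¬ ∀ x ∈ P, x • d = d := by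
    intro v hv hvP d hvd hPd
    rcases eq_or_ne d E.pt with rfl | hd
    · refine hPA fun x hx => ?_
      have h := E.le_conj_A (g := 1) hv (by rwa [one_smul]) hvP (by simpa using hPd) hodd x hx
      simpa using h
    · obtain ⟨t, ht, htP⟩ := hswap d hd hPd
      have htpt : t • E.pt = d := ht.2
      refine hPA fun x hx => ?_
      have hx' := (Subgroup.mem_normalizer_iff.1 htP x).1 hx
      have h := E.le_conj_A (g := t) hv (by rwa [htpt]) hvP (by rwa [htpt]) hodd _ hx'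
      rwa [show t⁻¹ * (t * x * t⁻¹) * t = x by group] at h
  by_cases hfour : ∃ u v : G, Inv u ∧ Inv v ∧ u ≠ v ∧ Commute u v ∧
      u ∈ Subgroup.normalizer (P : Set G) ∧ v ∈ Subgroup.normalizer (P : Set G)
  · exfalso
    obtain ⟨u, v, hu, hv, huv, hcomm, huP, hvP⟩ := hfour
    obtain ⟨d, hd, -⟩ := E.fix_exists_unique hu
    have hvd : v • d = d := E.fix_of_commute hu hcomm.symm hd
    obtain ⟨g, rfl⟩ := E.exists_smul_pt d
    let V : Subgroup G := E.W.map (MulAut.conj g).toMonoidHom ⊓ Subgroup.normalizer (P : Set G)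
    haveI : IsMulCommutative V := ⟨⟨by
      rintro ⟨_, ⟨x, hx, rfl⟩, -⟩ ⟨_, ⟨y, hy, rfl⟩, -⟩
      exact Subtype.ext ((E.A_comm hx.1 hy.1).map (MulAut.conj g).toMonoidHom).eq⟩⟩
    have hmem : ∀ {w : G}, Inv w → w • (g • E.pt) = g • E.pt →
        w ∈ E.W.map (MulAut.conj g).toMonoidHom := fun {w} hw hwd =>
      ⟨g⁻¹ * w * g, ⟨(E.inv_fix hw hwd).1, (E.inv_fix hw hwd).2.2⟩,
        show g * (g⁻¹ * w * g) * g⁻¹ = w by group⟩
    have huV : u ∈ V := ⟨hmem hu hd, huP⟩
    have hvV : v ∈ V := ⟨hmem hv hvd, hvP⟩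
    have hcop : (Nat.card V).Coprime (Nat.card P) := by
      obtain ⟨r, hr⟩ := E.exists_card_W
      refine Nat.Coprime.coprime_dvd_left (Subgroup.card_dvd_of_le inf_le_left) ?_
      rw [Subgroup.card_map_of_injective (MulEquiv.injective _), E.card_W, hr]
      exact (Nat.coprime_two_left.2 hodd).pow_left r
    refine hnofix v hv hvP (g • E.pt) hvd fun x hx => ?_
    have hle : P ≤ stabilizer G (g • E.pt) := by
      refine Coprime.le_of_pair (inf_le_right : V ≤ _) hcop Nat.prime_two huV hvV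
        (by rw [pow_two, hu.2]; exact one_mem _) (by rw [pow_two, hv.2]; exact one_mem _) ?_
      intro i j hij y hy
      have hyc : Commute y (u ^ i * v ^ j) := Subgroup.mem_centralizer_singleton_iff.1 hy.2
      have hu2 : u ^ 2 = 1 := by rw [pow_two]; exact hu.2
      have hv2 : v ^ 2 = 1 := by rw [pow_two]; exact hv.2
      rw [pow_eq_pow_mod i hu2, pow_eq_pow_mod j hv2] at hyc
      rcases Nat.mod_two_eq_zero_or_one i with hi | hi <;>
        rcases Nat.mod_two_eq_zero_or_one j with hj | hj <;> rw [hi, hj] at hyc <;>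
        simp only [pow_zero, pow_one, one_mul, mul_one] at hyc
      · exact absurd ⟨Nat.dvd_of_mod_eq_zero hi, Nat.dvd_of_mod_eq_zero hj⟩ hij
      · exact E.fix_of_commute hv hyc hvd
      · exact E.fix_of_commute hu hyc hd
      · have huv1 : Inv (u * v) := ⟨fun h => huv (by
          rw [mul_eq_one_iff_eq_inv.1 h, inv_eq_of_mul_eq_one_right hv.2]), by
          rw [hcomm.symm.mul_mul_mul_comm, hu.2, hv.2, mul_one]⟩
        exact E.fix_of_commute huv1 hyc (by rw [mul_smul, hvd, hd])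
    exact hle hx
  -- the normaliser has a cyclic Sylow 2-subgroup
  push Not at hfour
  let R : Subgroup G := Subgroup.normalizer (P : Set G)
  obtain ⟨s, hs, hsR⟩ := hswap b hb fun x hx => (hPD hx).2
  obtain ⟨t, ht, htR⟩ := hswap c hc hPc
  haveI : Fact (Nat.Prime 2) := ⟨Nat.prime_two⟩
  let Q : Sylow 2 R := default
  haveI hQc : IsMulCommutative (Q : Subgroup R) := ⟨⟨fun x y => Subtype.ext (Subtype.ext
    (E.commute_of_two (Q.2.map R.subtype) ⟨_, x.2, rfl⟩ ⟨_, y.2, rfl⟩).eq)⟩⟩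
  have hQcyc : IsCyclic (Q : Subgroup R) := isCyclic_of_unique_inv Q.2 fun u v hu hv hiu hiv => by
    by_contra hne
    refine hfour (u : G) (v : G) ⟨fun h => hiu.1 (Subtype.ext h), congrArg Subtype.val hiu.2⟩
      ⟨fun h => hiv.1 (Subtype.ext h), congrArg Subtype.val hiv.2⟩ (fun h => hne (Subtype.ext h)) ?_
      u.2 v.2
    exact E.commute_of_two (Q.2.map R.subtype) ⟨_, hu, rfl⟩ ⟨_, hv, rfl⟩
  have hmin : (Nat.card R).minFac = 2 := by
    rw [Nat.minFac_eq_two_iff]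
    have := orderOf_dvd_natCard (⟨s, hsR⟩ : R)
    rwa [Subgroup.orderOf_mk, orderOf_eq_prime (by rw [pow_two]; exact hs.1.2) hs.1.1] at this
  let hNC := hQcyc.normalizer_le_centralizer hmin
  let q : R →* (Q : Subgroup R) := MonoidHom.transferSylow Q hNC
  have hq : ∀ v : R, Inv (v : G) → q v ≠ 1 := by
    intro v hv h
    have h2 := MonoidHom.not_dvd_card_ker_transferSylow Q hNC
    refine h2 ?_
    have hd := orderOf_dvd_natCard (⟨v, MonoidHom.mem_ker.2 h⟩ : q.ker)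
    rwa [Subgroup.orderOf_mk, ← Subgroup.orderOf_coe,
      orderOf_eq_prime (by rw [pow_two]; exact hv.2) hv.1] at hd
  have huni : ∀ u v : (Q : Subgroup R), u ≠ 1 → v ≠ 1 → u * u = 1 → v * v = 1 → u = v := by
    intro u v hu hv hu2 hv2
    classical
    have := Fintype.ofFinite (Q : Subgroup R)
    have h := IsCyclic.card_pow_eq_one_le (α := (Q : Subgroup R)) (n := 2) two_pos
    by_contra hne
    have hsub : ({1, u, v} : Finset (Q : Subgroup R)) ⊆
        Finset.univ.filter fun x => x ^ 2 = 1 := by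
      intro x hx
      simp only [Finset.mem_insert, Finset.mem_singleton] at hx
      simp only [Finset.mem_filter, Finset.mem_univ, true_and]
      rcases hx with rfl | rfl | rfl <;> simp [pow_two, hu2, hv2]
    have h3 := (Finset.card_le_card hsub).trans h
    rw [Finset.card_insert_of_notMem (by simp [hu.symm, hv.symm]), Finset.card_pair hne] at h3
    omega
  -- the product of the two swaps fixes the base point
  have hst : q (⟨s, hsR⟩ * ⟨t, htR⟩) = 1 := by
    have hs' : q ⟨s, hsR⟩ * q ⟨s, hsR⟩ = 1 := by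
      rw [← map_mul, show (⟨s, hsR⟩ : R) * ⟨s, hsR⟩ = 1 from Subtype.ext hs.1.2, map_one]
    have ht' : q ⟨t, htR⟩ * q ⟨t, htR⟩ = 1 := by
      rw [← map_mul, show (⟨t, htR⟩ : R) * ⟨t, htR⟩ = 1 from Subtype.ext ht.1.2, map_one]
    rw [map_mul, huni _ _ (hq _ hs.1) (hq _ ht.1) hs' ht', ht']
  have hpt : (s * t) • E.pt = E.pt := by
    by_contra hne
    have hfix : ∀ x ∈ P, x • ((s * t) • E.pt) = (s * t) • E.pt := by
      intro x hx
      have hm := (Subgroup.mem_normalizer_iff.1 (inv_mem (R.mul_mem hsR htR)) x).1 hx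
      rw [inv_inv] at hm
      have h := (hPD hm).1
      have h' : ((s * t)⁻¹ * x * (s * t)) • E.pt = E.pt := h
      rwa [mul_smul, mul_smul, inv_smul_eq_iff] at h'
    obtain ⟨t', ht', ht'R⟩ := hswap _ hne hfix
    let g : R := ⟨t', ht'R⟩ * (⟨s, hsR⟩ * ⟨t, htR⟩)
    have hgq : q g ≠ 1 := by
      rw [map_mul, hst, mul_one]
      exact hq _ ht'.1
    have hgpt : (g : G) • E.pt = E.pt := by
      show (t' * (s * t)) • E.pt = E.pt
      rw [mul_smul, E.T_back ht']
    have heven : 2 ∣ orderOf (g : G) := by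
      rw [Subgroup.orderOf_coe]
      by_contra hodd'
      obtain ⟨j, hj⟩ := IsPGroup.iff_orderOf.1 Q.2 (q g)
      have h1 := orderOf_map_dvd q g
      rw [hj] at h1
      rcases j with _ | j
      · exact hgq (orderOf_eq_one_iff.1 (by simpa using hj))
      · exact hodd' ((dvd_pow_self 2 j.succ_ne_zero).trans h1)
    obtain ⟨j, hj⟩ := heven
    have hpos := orderOf_pos (g : G)
    have hv : Inv ((g : G) ^ j) := ⟨fun h => by
      have := Nat.le_of_dvd (by omega) (orderOf_dvd_of_pow_eq_one h)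
      omega, by rw [← pow_add, ← two_mul, ← hj, pow_orderOf_eq_one]⟩
    refine hnofix _ hv (pow_mem g.2 j) E.pt ?_ fun x hx => (hPD hx).1
    exact E.stab_pt.2 (pow_mem (E.stab_pt.1 hgpt) j)
  rw [mul_smul, ht.2] at hpt
  calc c = s • (s • c) := by rw [smul_smul, hs.1.2, one_smul]
    _ = b := by rw [hpt, hs.2]

/-- A `p`-subgroup of `D b` of full `p`-part fixing only two points is a Sylow subgroup of `G`. -/
theorem sylow_of_two {b : G ⧸ E.N} (hb : b ≠ E.pt) {p : ℕ} [hp : Fact p.Prime] (hp2 : p ≠ 2)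
    {P : Subgroup G} (hPD : P ≤ E.D b)
    (hcard : Nat.card P = p ^ (Nat.card (E.D b)).factorization p)
    (hfix : ∀ c : G ⧸ E.N, c ≠ E.pt → (∀ x ∈ P, x • c = c) → c = b) :
    ∃ Q : Sylow p G, (Q : Subgroup G) = P := by
  obtain ⟨Q, hQ⟩ := (IsPGroup.of_card hcard).exists_le_sylow
  refine ⟨Q, le_antisymm ?_ hQ⟩
  by_contra hne
  haveI := Q.2.isNilpotent
  have hlt : P.subgroupOf Q < ⊤ := lt_top_iff_ne_top.2 fun h => hne (Subgroup.subgroupOf_eq_top.1 h)
  obtain ⟨⟨g, hgQ⟩, hgN, hgP⟩ := SetLike.exists_of_lt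
    (normalizerCondition_of_isNilpotent (G := (Q : Subgroup G)) _ hlt)
  have hgn : g ∈ Subgroup.normalizer (P : Set G) := by
    refine Subgroup.mem_normalizer_iff.2 fun x => ⟨fun hx => ?_, fun hx => ?_⟩
    · exact (Subgroup.mem_normalizer_iff.1 hgN ⟨x, hQ hx⟩).1 hx
    · have hxQ : x ∈ (Q : Subgroup G) := by
        have := (Q : Subgroup G).mul_mem ((Q : Subgroup G).mul_mem ((Q : Subgroup G).inv_mem hgQ)
          (hQ hx)) hgQ
        simpa [mul_assoc] using this
      exact (Subgroup.mem_normalizer_iff.1 hgN ⟨x, hxQ⟩).2 hx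
  have himg : ∀ c : G ⧸ E.N, (∀ x ∈ P, x • c = c) → ∀ x ∈ P, x • (g • c) = g • c := by
    intro c hc x hx
    have h := hc _ ((Subgroup.mem_normalizer_iff.1 (inv_mem hgn) x).1 hx)
    rwa [inv_inv, mul_smul, mul_smul, inv_smul_eq_iff] at h
  have hpt := himg E.pt fun x hx => (hPD hx).1
  have hbb := himg b fun x hx => (hPD hx).2
  rcases eq_or_ne (g • E.pt) E.pt with hg | hg
  · have hgb : g • b = b := hfix _ (fun h => hb (smul_left_cancel g (h.trans hg.symm))) hbb
    have hgp : IsPGroup p (Subgroup.zpowers g) :=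
      Q.2.to_le (Subgroup.zpowers_le.2 hgQ)
    have hsup : IsPGroup p (P ⊔ Subgroup.zpowers g : Subgroup G) :=
      (IsPGroup.of_card hcard).to_sup_of_normal_left' hgp (Subgroup.zpowers_le.2 hgn)
    obtain ⟨i, hi⟩ := hsup.exists_card_eq
    have h1 : Nat.card (P ⊔ Subgroup.zpowers g : Subgroup G) ∣ Nat.card (E.D b) :=
      Subgroup.card_dvd_of_le (sup_le hPD (Subgroup.zpowers_le.2 (E.mem_D.2 ⟨hg, hgb⟩)))
    rw [hi, hp.out.pow_dvd_iff_le_factorization Nat.card_pos.ne'] at h1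
    have h2 : P = P ⊔ Subgroup.zpowers g := Subgroup.eq_of_le_of_card_ge le_sup_left (by
      rw [hcard, hi]; exact Nat.pow_le_pow_right hp.out.pos h1)
    exact hgP (Subgroup.mem_subgroupOf.2 (h2 ▸ Subgroup.mem_sup_right (Subgroup.mem_zpowers g)))
  · have hgb : g • E.pt = b := hfix _ hg hpt
    have hgb' : g • b = E.pt := by
      by_contra hne'
      exact hb (smul_left_cancel g ((hfix _ hne' hbb).trans hgb.symm))
    have hodd : Odd (orderOf g) := by
      obtain ⟨i, hi⟩ := IsPGroup.iff_orderOf.1 Q.2 ⟨g, hgQ⟩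
      rw [Subgroup.orderOf_mk] at hi
      rw [hi]
      exact (hp.out.odd_of_ne_two hp2).pow
    obtain ⟨j, hj⟩ := hodd
    have h1 : ∀ n : ℕ, g ^ (2 * n) • E.pt = E.pt := by
      intro n
      induction n with
      | zero => simp
      | succ n ih =>
        rw [show 2 * (n + 1) = 2 + 2 * n by ring, pow_add, mul_smul, ih, pow_two, mul_smul, hgb, hgb']
    have h2 := pow_orderOf_eq_one g
    rw [hj, pow_succ'] at h2
    have h3 := congrArg (· • E.pt) h2
    simp only [mul_smul, h1, one_smul] at h3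
    exact hg h3

/-- `A ∩ A ^ s` meets the two-point stabilisers trivially. -/
def CoreTrivial : Prop :=
  ∀ b : G ⧸ E.N, b ≠ E.pt → ∀ x ∈ E.D b, x ∈ E.A → ∀ s ∈ E.T b, s * x * s⁻¹ ∈ E.A → x = 1

/-- The map `x ↦ s x s⁻¹ A` on `A ∩ D b`. -/
def sMap {b : G ⧸ E.N} {s : G} (hs : s ∈ E.T b) : E.D₀ b →* E.N ⧸ E.A.subgroupOf E.N :=
  (QuotientGroup.mk' _).comp
    (MonoidHom.mk' (fun x => (⟨s * x * s⁻¹, E.D_le_N b (E.T_conj_D hs x.2.1)⟩ : E.N))
      fun x y => Subtype.ext (by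
        show s * (x * y : G) * s⁻¹ = s * x * s⁻¹ * (s * y * s⁻¹)
        group))

theorem sMap_injective (hcore : E.CoreTrivial) {b : G ⧸ E.N} (hb : b ≠ E.pt) {s : G}
    (hs : s ∈ E.T b) : Function.Injective (E.sMap hs) := by
  refine (injective_iff_map_eq_one _).2 fun x hx => Subtype.ext ?_
  exact hcore b hb x x.2.1 x.2.2 s hs
    (Subgroup.mem_subgroupOf.1 ((QuotientGroup.eq_one_iff _).1 hx))

theorem card_D₀_dvd (hcore : E.CoreTrivial) {b : G ⧸ E.N} (hb : b ≠ E.pt) :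
    Nat.card (E.D₀ b) ∣ E.k := by
  obtain ⟨s, hs⟩ := E.exists_swap hb
  rw [← E.relIndex_A]
  show _ ∣ (E.A.subgroupOf E.N).index
  rw [Subgroup.index_eq_card]
  exact Subgroup.card_dvd_of_injective _ (E.sMap_injective hcore hb hs)

/-- Two elements of a `p`-subgroup of `N` commute modulo `A`. -/
theorem commutator_mem_A {p : ℕ} [Fact p.Prime] {P : Subgroup G} (hP : IsPGroup p P) (hPN : P ≤ E.N)
    {u v : G} (hu : u ∈ P) (hv : v ∈ P) : u * v * u⁻¹ * v⁻¹ ∈ E.A := by
  haveI := E.isZGroup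
  let π := QuotientGroup.mk' (E.A.subgroupOf E.N)
  have hP' : IsPGroup p ((P.subgroupOf E.N).map π) :=
    (hP.of_injective (Subgroup.subgroupOfEquivOfLe hPN).toMonoidHom
      (MulEquiv.injective _)).map π
  obtain ⟨Q, hQ⟩ := hP'.exists_le_sylow
  haveI : IsCyclic (Q : Subgroup (E.N ⧸ E.A.subgroupOf E.N)) := IsZGroup.isZGroup p Fact.out Q
  have hc : Commute (π ⟨u, hPN hu⟩) (π ⟨v, hPN hv⟩) := by
    have hu' : π ⟨u, hPN hu⟩ ∈ (Q : Subgroup _) := hQ ⟨_, Subgroup.mem_subgroupOf.2 hu, rfl⟩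
    have hv' : π ⟨v, hPN hv⟩ ∈ (Q : Subgroup _) := hQ ⟨_, Subgroup.mem_subgroupOf.2 hv, rfl⟩
    exact congrArg Subtype.val ((IsCyclic.isMulCommutative (α := (Q : Subgroup _))).is_comm.comm
      ⟨_, hu'⟩ ⟨_, hv'⟩)
  have h1 : π (⟨u, hPN hu⟩ * ⟨v, hPN hv⟩ * ⟨u, hPN hu⟩⁻¹ * ⟨v, hPN hv⟩⁻¹) = 1 := by
    rw [map_mul, map_mul, map_mul, map_inv, map_inv, hc.eq]; group
  exact Subgroup.mem_subgroupOf.1 ((QuotientGroup.eq_one_iff _).1 h1)

/-- `A ∩ D b` of order `p` elements are central in `D b`, for `p` least dividing `k`. -/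
theorem commute_D_of_minFac (hcore : E.CoreTrivial) {b : G ⧸ E.N} (hb : b ≠ E.pt) {x d : G}
    (hx : x ∈ E.D₀ b) (hxp : x ^ E.k.minFac = 1) (hx1 : x ≠ 1) (hd : d ∈ E.D b) :
    Commute d x := by
  have hk := E.two_le_k
  haveI : Fact E.k.minFac.Prime := ⟨Nat.minFac_prime (by omega)⟩
  haveI := E.isZGroup
  obtain ⟨s, hs⟩ := E.exists_swap hb
  let X : Subgroup G :=
    { carrier := {y | y ∈ E.D₀ b ∧ y ^ E.k.minFac = 1}
      one_mem' := ⟨one_mem _, one_pow _⟩
      mul_mem' := fun {y w} hy hw => ⟨mul_mem hy.1 hw.1, by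
        rw [(E.A_comm hy.1.2 hw.1.2).mul_pow, hy.2, hw.2, one_mul]⟩
      inv_mem' := fun {y} hy => ⟨inv_mem hy.1, by rw [inv_pow, hy.2, inv_one]⟩ }
  have hXp : IsPGroup E.k.minFac X := fun y => ⟨1, Subtype.ext (by
    rw [pow_one, Subgroup.coe_pow]; exact y.2.2)⟩
  let ρ : X →* E.N ⧸ E.A.subgroupOf E.N :=
    (E.sMap hs).comp (Subgroup.inclusion (fun y hy => hy.1 : X ≤ E.D₀ b))
  have hρ : Function.Injective ρ :=
    (E.sMap_injective hcore hb hs).comp (Subgroup.inclusion_injective _)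
  obtain ⟨Q, hQ⟩ := (show IsPGroup E.k.minFac ρ.range from
    hXp.of_surjective ρ.rangeRestrict ρ.rangeRestrict_surjective).exists_le_sylow
  haveI : IsCyclic (Q : Subgroup (E.N ⧸ E.A.subgroupOf E.N)) :=
    IsZGroup.isZGroup E.k.minFac Fact.out Q
  haveI : IsCyclic ρ.range := Subgroup.isCyclic_of_le hQ
  haveI : IsCyclic X :=
    isCyclic_of_surjective (MonoidHom.ofInjective hρ).symm (MulEquiv.surjective _)
  have hXcard : Nat.card X = E.k.minFac := by
    obtain ⟨y, hy⟩ := IsCyclic.exists_ofOrder_eq_natCard (α := X)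
    have h1 : Nat.card X ∣ E.k.minFac := hy ▸ orderOf_dvd_of_pow_eq_one (Subtype.ext (by
      rw [Subgroup.coe_pow]; exact y.2.2))
    rcases (Nat.dvd_prime Fact.out).1 h1 with h | h
    · exact absurd (congrArg Subtype.val ((Nat.card_eq_one_iff_unique.1 h).1.elim
        (⟨x, hx, hxp⟩ : X) 1)) hx1
    · exact h
  have hDX : E.D b ≤ Subgroup.normalizer (X : Set G) := by
    have key : ∀ d ∈ E.D b, ∀ y ∈ X, d * y * d⁻¹ ∈ X := fun d hd y hy =>
      ⟨⟨(E.D b).mul_mem ((E.D b).mul_mem hd hy.1.1) ((E.D b).inv_mem hd),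
        E.mem_N_conj (E.D_le_N b hd) hy.1.2⟩, by rw [conj_pow, hy.2, mul_one, mul_inv_cancel]⟩
    intro d hd
    refine Subgroup.mem_normalizer_iff.2 fun y => ⟨fun hy => key d hd y hy, fun hy => ?_⟩
    have h := key d⁻¹ ((E.D b).inv_mem hd) _ hy
    rwa [inv_inv, show d⁻¹ * (d * y * d⁻¹) * d = y by group] at h
  let φ : E.D b →* MulAut X := ((MulAut.congr (Subgroup.subgroupOfEquivOfLe
      (Subgroup.le_normalizer (H := X)))).toMonoidHom.comp
    (MulAut.conjNormal (H := X.subgroupOf (Subgroup.normalizer (X : Set G))))).comp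
      (Subgroup.inclusion hDX)
  have hφ : ∀ (d : E.D b) (y : X), ((φ d y : X) : G) = d * y * (d : G)⁻¹ := fun d y => rfl
  have h1 : φ ⟨d, hd⟩ = 1 := by
    refine orderOf_eq_one_iff.1 (Nat.eq_one_of_dvd_coprimes ?_
      ((orderOf_map_dvd φ _).trans (orderOf_dvd_natCard _)) (orderOf_dvd_natCard (φ ⟨d, hd⟩)))
    rw [IsCyclic.card_mulAut, hXcard, Nat.totient_prime Fact.out, E.card_D hb]
    refine Nat.coprime_of_dvd fun q hq hq1 hq2 => ?_
    have hqk : q ∣ E.k := by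
      rcases (Nat.Prime.dvd_mul hq).1 hq1 with h | h
      · exact h
      · exact h.trans (E.card_D₀_dvd hcore hb)
    have h3 := Nat.minFac_le_of_dvd hq.two_le hqk
    have h4 := (Fact.out : E.k.minFac.Prime).two_le
    have h5 := Nat.le_of_dvd (by omega) hq2
    omega
  have h2 : d * x * d⁻¹ = x := by
    have := hφ ⟨d, hd⟩ ⟨x, hx, hxp⟩
    rw [h1] at this
    exact this.symm
  exact mul_inv_eq_iff_eq_mul.1 h2

/-- The Sylow data of a point: a full `p`-subgroup of `D b`. -/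
theorem exists_full {b : G ⧸ E.N} (p : ℕ) [Fact p.Prime] :
    ∃ P : Subgroup G, P ≤ E.D b ∧ Nat.card P = p ^ (Nat.card (E.D b)).factorization p := by
  let Q : Sylow p (E.D b) := default
  exact ⟨(Q : Subgroup (E.D b)).map (E.D b).subtype, Subgroup.map_subtype_le _, by
    rw [Subgroup.card_map_of_injective (E.D b).subtype_injective, Q.card_eq_multiplicity]⟩

theorem good_of_coreTrivial (hcore : E.CoreTrivial)
    (hgen : Subgroup.closure {t : G | Inv t} = ⊤) :
    ∀ b c : G ⧸ E.N, b ≠ E.pt → c ≠ E.pt → ∃ x ∈ E.A, x • b = c := by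
  classical
  have hk := E.two_le_k
  have hp : E.k.minFac.Prime := Nat.minFac_prime (by omega)
  haveI : Fact E.k.minFac.Prime := ⟨hp⟩
  have hp2 : E.k.minFac ≠ 2 := fun h => by
    have h2 := Nat.minFac_dvd E.k
    rw [h] at h2
    exact Nat.not_even_iff_odd.2 E.odd_k (even_iff_two_dvd.2 h2)
  set p := E.k.minFac with hpdef
  have hpk : 1 ≤ E.k.factorization p :=
    (hp.dvd_iff_one_le_factorization (by omega)).1 (Nat.minFac_dvd _)
  let e : G ⧸ E.N → ℕ := fun c => (Nat.card (E.D₀ c)).factorization p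
  have hfac : ∀ c : G ⧸ E.N, c ≠ E.pt →
      (Nat.card (E.D c)).factorization p = E.k.factorization p + e c := by
    intro c hc
    rw [E.card_D hc, Nat.factorization_mul (by omega) Nat.card_pos.ne', Finsupp.add_apply]
  -- consequences at a point where `e` is largest
  have hmax : ∀ b : G ⧸ E.N, b ≠ E.pt → (∀ c : G ⧸ E.N, c ≠ E.pt → e c ≤ e b) →
      ∃ P : Sylow p G, (P : Subgroup G) ≤ E.D b ∧
        Nat.card (P : Subgroup G) = p ^ (E.k.factorization p + e b) ∧
        ∀ c : G ⧸ E.N, c ≠ E.pt → (∀ x ∈ (P : Subgroup G), x • c = c) → c = b := by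
    intro b hb hmax
    obtain ⟨P, hPD, hPc⟩ := E.exists_full (b := b) p
    have hPA : ¬ P ≤ E.A := by
      intro h
      have h1 : Nat.card P ∣ Nat.card (E.D₀ b) := Subgroup.card_dvd_of_le (le_inf hPD h)
      rw [hPc, hp.pow_dvd_iff_le_factorization Nat.card_pos.ne', hfac b hb] at h1
      show False
      simp only [e] at h1
      omega
    have hswap : ∀ c : G ⧸ E.N, c ≠ E.pt → (∀ x ∈ P, x • c = c) →
        ∃ t ∈ E.T c, t ∈ Subgroup.normalizer (P : Set G) := by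
      intro c hc hPfix
      have hle : P ≤ E.D c := fun x hx => E.mem_D.2 ⟨(hPD hx).1, hPfix x hx⟩
      refine E.exists_swap_normalizes hc (p := p) hle ?_
      have h1 : Nat.card P ∣ Nat.card (E.D c) := Subgroup.card_dvd_of_le hle
      rw [hPc, hp.pow_dvd_iff_le_factorization Nat.card_pos.ne', hfac c hc, hfac b hb] at h1
      rw [hPc, hfac c hc, hfac b hb]
      congr 1
      have := hmax c hc
      omega
    have hfix := fun c hc hPfix => E.fix_two hb hPD hPA hswap (c := c) hc hPfix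
    obtain ⟨Q, rfl⟩ := E.sylow_of_two hb hp2 hPD hPc hfix
    exact ⟨Q, hPD, by rw [hPc, hfac b hb], hfix⟩
  obtain ⟨b, hb, hbmax⟩ : ∃ b : G ⧸ E.N, b ≠ E.pt ∧ ∀ c : G ⧸ E.N, c ≠ E.pt → e c ≤ e b := by
    have := Fintype.ofFinite (G ⧸ E.N)
    have hne : (Finset.univ.filter fun c : G ⧸ E.N => c ≠ E.pt).Nonempty := by
      by_contra h
      refine E.Ntop (eq_top_iff.2 fun g _ => E.stab_pt.1 ?_)
      by_contra hg
      exact h ⟨g • E.pt, Finset.mem_filter.2 ⟨Finset.mem_univ _, hg⟩⟩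
    obtain ⟨b, hb, hmx⟩ := Finset.exists_max_image _ e hne
    exact ⟨b, (Finset.mem_filter.1 hb).2,
      fun c hc => hmx c (Finset.mem_filter.2 ⟨Finset.mem_univ _, hc⟩)⟩
  rcases Nat.eq_zero_or_pos (e b) with he | he
  · -- all points are maximal: Sylow's theorem in `N`
    intro b₁ c₁ hb₁ hc₁
    have hall : ∀ c : G ⧸ E.N, c ≠ E.pt → ∀ d : G ⧸ E.N, d ≠ E.pt → e d ≤ e c :=
      fun c _ d hd => by have := hbmax d hd; omega
    obtain ⟨P₁, hP₁, -, hfix₁⟩ := hmax b₁ hb₁ (hall b₁ hb₁)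
    obtain ⟨P₂, hP₂, -, hfix₂⟩ := hmax c₁ hc₁ (hall c₁ hc₁)
    obtain ⟨⟨g, hgN⟩, hg⟩ := MulAction.exists_smul_eq E.N
      (P₁.subtype (hP₁.trans (E.D_le_N b₁))) (P₂.subtype (hP₂.trans (E.D_le_N c₁)))
    have hgb : g • b₁ = c₁ := by
      refine hfix₂ _ (fun h => hb₁ (smul_left_cancel g (h.trans (E.stab_pt.2 hgN).symm))) fun x hx => ?_
      have hxN : x ∈ E.N := E.D_le_N c₁ (hP₂ hx)
      have h1 : (⟨x, hxN⟩ : E.N) ∈ (((⟨g, hgN⟩ : E.N) • P₁.subtype (hP₁.trans (E.D_le_N b₁)) :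
          Sylow p E.N) : Subgroup E.N) := by rw [hg]; exact hx
      rw [Sylow.coe_subgroup_smul] at h1
      obtain ⟨y, hy, hyx⟩ := h1
      have hyG : g * (y : G) * g⁻¹ = x := congrArg Subtype.val hyx
      rw [← hyG, mul_smul, mul_smul, inv_smul_smul, show (y : G) • b₁ = b₁ from (hP₁ hy).2]
    obtain ⟨s, hs⟩ := E.exists_swap hb₁
    obtain ⟨t, ht, hA⟩ := E.exists_T_decomp hb₁ hs hgN
    have hd := E.mul_mem_D hs ht
    refine ⟨g * (s * t)⁻¹, ?_, by rw [mul_smul, ((E.D b₁).inv_mem hd).2, hgb]⟩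
    have e1 : g * (s * t)⁻¹ = (s * t) * ((s * t)⁻¹ * g) * (s * t)⁻¹ := by group
    rw [e1]
    exact E.mem_N_conj (E.D_le_N b₁ hd) hA
  exfalso
  obtain ⟨P, hPD, hPc, hPfix⟩ := hmax b hb hbmax
  obtain ⟨s, hs, hsP⟩ := E.exists_swap_normalizes hb hPD (by rw [hPc, hfac b hb])
  have hsconj : ∀ x ∈ (P : Subgroup G), s * x * s⁻¹ ∈ (P : Subgroup G) := fun x hx =>
    (Subgroup.mem_normalizer_iff.1 hsP x).1 hx
  have hPN : (P : Subgroup G) ≤ E.N := hPD.trans (E.D_le_N b)
  haveI hPab : IsMulCommutative (P : Subgroup G) := ⟨⟨fun u v => Subtype.ext (by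
    have h1 := E.commutator_mem_A P.2 hPN u.2 v.2
    have h2 := E.commutator_mem_A P.2 hPN (hsconj _ u.2) (hsconj _ v.2)
    have h3 := hcore b hb ((u : G) * v * (u : G)⁻¹ * (v : G)⁻¹)
      (hPD ((P : Subgroup G).mul_mem ((P : Subgroup G).mul_mem ((P : Subgroup G).mul_mem u.2 v.2)
        ((P : Subgroup G).inv_mem u.2)) ((P : Subgroup G).inv_mem v.2))) h1 s hs
      (by
        have e1 : s * ((u : G) * v * (u : G)⁻¹ * (v : G)⁻¹) * s⁻¹ = (s * u * s⁻¹) * (s * v * s⁻¹) *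
            (s * u * s⁻¹)⁻¹ * (s * v * s⁻¹)⁻¹ := by group
        rw [e1]; exact h2)
    exact mul_inv_eq_iff_eq_mul.1 (mul_inv_eq_one.1 h3))⟩⟩
  -- an element of order `p` in `A ∩ P`
  obtain ⟨x, hxP, hxA, hx1, hxp⟩ : ∃ x ∈ (P : Subgroup G), x ∈ E.A ∧ x ≠ 1 ∧ x ^ p = 1 := by
    have hne : (P : Subgroup G) ⊓ E.A ≠ ⊥ := by
      intro h
      have h1 : Nat.card (P : Subgroup G) ∣ E.k := by
        rw [← E.relIndex_A]
        show _ ∣ (E.A.subgroupOf E.N).index
        rw [Subgroup.index_eq_card]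
        refine Subgroup.card_dvd_of_injective
          ((QuotientGroup.mk' (E.A.subgroupOf E.N)).comp (Subgroup.inclusion hPN))
          ((injective_iff_map_eq_one _).2 fun y hy => Subtype.ext ?_)
        have hyA := Subgroup.mem_subgroupOf.1 ((QuotientGroup.eq_one_iff _).1 hy)
        exact Subgroup.mem_bot.1 (SetLike.le_def.1 h.le ⟨y.2, hyA⟩)
      rw [hPc, hp.pow_dvd_iff_le_factorization (by omega)] at h1
      omega
    haveI : Nontrivial ((P : Subgroup G) ⊓ E.A : Subgroup G) :=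
      (Subgroup.nontrivial_iff_ne_bot _).2 hne
    obtain ⟨i, hi, hcard⟩ := (P.2.to_le inf_le_left).nontrivial_iff_card.1 this
    obtain ⟨y, hy⟩ := exists_prime_orderOf_dvd_card' (G := ((P : Subgroup G) ⊓ E.A : Subgroup G)) p
      (hcard ▸ dvd_pow_self p hi.ne')
    refine ⟨y, y.2.1, y.2.2, fun h => hp.ne_one ?_, ?_⟩
    · rw [← hy, ← Subgroup.orderOf_coe, h, orderOf_one]
    · have := pow_orderOf_eq_one (y : G)
      rwa [Subgroup.orderOf_coe, hy] at this
  have hxD : ∀ d ∈ E.D b, Commute d x := fun d hd =>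
    E.commute_D_of_minFac hcore hb ⟨hPD hxP, hxA⟩ hxp hx1 hd
  have hfP : x * (s * x * s⁻¹) ∈ (P : Subgroup G) := mul_mem hxP (hsconj x hxP)
  have hPcomm : ∀ u ∈ (P : Subgroup G), ∀ v ∈ (P : Subgroup G), Commute u v := fun u hu v hv =>
    congrArg Subtype.val (hPab.is_comm.comm ⟨u, hu⟩ ⟨v, hv⟩)
  have hfD : ∀ d ∈ E.D b, Commute d (x * (s * x * s⁻¹)) := by
    intro d hd
    refine (hxD d hd).mul_right ?_
    have hd' := E.T_conj_D hs hd
    have h := (Commute.conj_iff s).2 (hxD _ hd')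
    rw [E.T_inv hs] at h ⊢
    rwa [show s * (s * d * s) * s = (s * s) * d * (s * s) by group, hs.1.2, one_mul, mul_one] at h
  have hfs : Commute s (x * (s * x * s⁻¹)) := by
    show s * (x * (s * x * s⁻¹)) = x * (s * x * s⁻¹) * s
    rw [(hPcomm x hxP _ (hsconj x hxP)).eq, E.T_inv hs]
    calc s * (s * x * s * x) = (s * s) * (x * s * x) := by group
      _ = x * s * x := by rw [hs.1.2, one_mul]
      _ = x * s * x * (s * s) := by rw [hs.1.2, mul_one]
      _ = _ := by rw [← (hPcomm x hxP (s * x * s) (by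
          have := hsconj x hxP; rwa [E.T_inv hs] at this)).eq]; group
  have hf1 : x * (s * x * s⁻¹) ≠ 1 := by
    intro h
    refine hx1 (hcore b hb x (hPD hxP) hxA s hs ?_)
    rw [← inv_eq_of_mul_eq_one_right h]
    exact E.A.inv_mem hxA
  have hfR : ∀ g ∈ Subgroup.normalizer ((P : Subgroup G) : Set G),
      Commute g (x * (s * x * s⁻¹)) := by
    have key : ∀ g ∈ Subgroup.normalizer ((P : Subgroup G) : Set G), g • E.pt = E.pt →
        Commute g (x * (s * x * s⁻¹)) := by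
      intro g hg hgpt
      refine hfD g (E.mem_D.2 ⟨hgpt, hPfix _ (fun h => hb (smul_left_cancel g (h.trans hgpt.symm)))
        fun y hy => ?_⟩)
      have h := (hPD ((Subgroup.mem_normalizer_iff.1 (inv_mem hg) y).1 hy)).2
      have h' : (g⁻¹ * y * g⁻¹⁻¹) • b = b := h
      rwa [inv_inv, mul_smul, mul_smul, inv_smul_eq_iff] at h'
    intro g hg
    by_cases hgpt : g • E.pt = E.pt
    · exact key g hg hgpt
    · have hgb : g • E.pt = b := hPfix _ hgpt fun y hy => by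
        have h := (hPD ((Subgroup.mem_normalizer_iff.1 (inv_mem hg) y).1 hy)).1
        have h' : (g⁻¹ * y * g⁻¹⁻¹) • E.pt = E.pt := h
        rwa [inv_inv, mul_smul, mul_smul, inv_smul_eq_iff] at h'
      have h1 := key (s * g) (mul_mem hsP hg) (by rw [mul_smul, hgb, E.T_back hs])
      have h2 := hfs.mul_left h1
      rwa [← mul_assoc, hs.1.2, one_mul] at h2
  -- the transfer into `P` is trivial, and does not vanish at `f`
  generalize hf : x * (s * x * s⁻¹) = f at hfP hf1 hfR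
  let φ : (P : Subgroup G) →* (P : Subgroup G) := MonoidHom.id _
  have hV : MonoidHom.transfer φ (⟨f, hfP⟩ : (P : Subgroup G)) = ⟨f, hfP⟩ ^ (P : Subgroup G).index := by
    refine TwoFusion.transfer_eq_pow_of_controlled φ ⟨f, hfP⟩ fun k a hm => ?_
    obtain ⟨n, hn, he⟩ := P.conj_eq_normalizer_conj_of_mem (f ^ k) a⁻¹ (pow_mem hfP k)
      (by rwa [inv_inv])
    rw [inv_inv] at he
    refine Subtype.ext ?_
    show a * f ^ k * a⁻¹ = ((⟨f, hfP⟩ : (P : Subgroup G)) ^ k : (P : Subgroup G))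
    rw [he, ((hfR n hn).pow_right k).symm.inv_right.eq.symm, Subgroup.coe_pow, mul_assoc]
    simp
  have hV1 : ∀ g : G, MonoidHom.transfer φ g = 1 := by
    intro g
    have hle : Subgroup.closure {t : G | Inv t} ≤ (MonoidHom.transfer φ).ker := by
      rw [Subgroup.closure_le]
      intro t ht
      rw [SetLike.mem_coe, MonoidHom.mem_ker]
      refine orderOf_eq_one_iff.1 (Nat.eq_one_of_dvd_coprimes ?_
        (orderOf_dvd_of_pow_eq_one (n := 2) (by rw [← map_pow, pow_two, ht.2, map_one]))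
        (orderOf_dvd_natCard _))
      rw [hPc]
      exact ((Nat.coprime_primes Nat.prime_two hp).2 hp2.symm).pow_right _
    exact MonoidHom.mem_ker.1 (hle (hgen ▸ Subgroup.mem_top g))
  have h1 : (⟨f, hfP⟩ : (P : Subgroup G)) ^ (P : Subgroup G).index = 1 := hV.symm.trans (hV1 f)
  refine hf1 (congrArg Subtype.val (?_ : (⟨f, hfP⟩ : (P : Subgroup G)) = 1))
  refine TwoFusion.eq_one_of_pow_eq_one_of_coprime h1 (pow_card_eq_one') ?_
  rw [hPc]
  exact ((hp.coprime_iff_not_dvd.2 P.not_dvd_index).symm).pow_right _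

end Setup

end Cfsg.Agent.AbelCent
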