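/-
Groups with abelian involution centralisers: `A` is transitive on the other points.

* `eq_top_of_good_sub` : a subgroup containing `N` in which the conclusion holds is everything
* `coreTrivial_of_ih` : hence `A ∩ A^s` meets the two-point stabilisers in the centre
* `good` : the induction
-/
import Cfsg.Agent.Lib.AbelCent.Sub
import Cfsg.Agent.Lib.AbelCent.Transfer
import Cfsg.Agent.EqLemmas

set_option autoImplicit false

open MulAction

namespace Cfsg.Agent.AbelCent

open CAEven (Inv inv_conj conj_or_common)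

universe u

namespace Setup

variable {G : Type u} [Group G] [Finite G] {E : Setup G}

theorem card_inv_pair (E : Setup G) {a b : G ⧸ E.N} (hab : a ≠ b) :
    Nat.card {t : G // Inv t ∧ t • a = b} = E.k := by
  obtain ⟨l, rfl⟩ := E.exists_smul_pt a
  have hb : l⁻¹ • b ≠ E.pt := fun h => hab (inv_smul_eq_iff.1 h).symm
  rw [← E.card_T hb]
  refine Nat.card_congr
    { toFun := fun t => ⟨l⁻¹ * t.1 * l, by simpa using inv_conj t.2.1 l⁻¹, by
        rw [mul_smul, mul_smul, t.2.2]⟩
      invFun := fun t => ⟨l * t.1 * l⁻¹, inv_conj t.2.1 l, by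
        rw [mul_smul, mul_smul, inv_smul_smul, show t.1 • E.pt = l⁻¹ • b from t.2.2, smul_inv_smul]⟩
      left_inv := fun t => Subtype.ext (by show l * (l⁻¹ * t.1 * l) * l⁻¹ = t.1; group)
      right_inv := fun t => Subtype.ext (by show l⁻¹ * (l * t.1 * l⁻¹) * l = t.1; group) }

theorem eq_top_of_good_sub {X : Subgroup G} (h : E.Big X) (hN : E.N ≤ X)
    (hG : (E.sub X h).Good) : X = ⊤ := by
  classical
  by_contra hne
  obtain ⟨g, hg⟩ : ∃ g : G, g ∉ X := by
    by_contra hno
    push Not at hno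
    exact hne (eq_top_iff.2 fun g _ => hno g)
  let F := E.sub X h
  have hk2 := E.two_le_k
  have hkF : F.k = E.k := sub_k h
  have hn : Nat.card (X ⧸ F.N) = E.k + 2 := by rw [card_omega hG, hkF]
  obtain ⟨bF, hbF⟩ := F.exists_ne_pt
  -- the involutions carrying a point of the orbit of `X` to `g • pt`
  let U : Set G := {t | Inv t ∧ g⁻¹ * t ∈ X}
  have hmem : ∀ (c : X ⧸ F.N) (t : G), t • orbitMap h c = g • E.pt → g⁻¹ * t ∈ X := by
    intro c t
    refine Quotient.inductionOn' c fun x hx => ?_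
    have hx' : t • ((x : G) • E.pt) = g • E.pt := hx
    have h1 : (g⁻¹ * t * x) • E.pt = E.pt := by
      rw [mul_smul, mul_smul, hx', inv_smul_smul]
    have h2 := X.mul_mem (hN (E.stab_pt.1 h1)) (X.inv_mem x.2)
    rwa [mul_inv_cancel_right] at h2
  have hne' : ∀ c : X ⧸ F.N, orbitMap h c ≠ g • E.pt := by
    intro c hc
    have := hmem c 1 (by rw [one_smul]; exact hc)
    rw [mul_one, inv_mem_iff] at this
    exact hg this
  have hUcard : E.k * (E.k + 2) ≤ Nat.card U := by
    let Φ : (Σ c : X ⧸ F.N, {t : G // Inv t ∧ t • orbitMap h c = g • E.pt}) → U :=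
      fun p => ⟨p.2.1, p.2.2.1, hmem p.1 p.2.1 p.2.2.2⟩
    have hΦ : Function.Injective Φ := by
      rintro ⟨c, t, ht⟩ ⟨d, u, hu⟩ e
      have htu : t = u := congrArg Subtype.val e
      subst htu
      have hcd : c = d := orbitMap_injective h (smul_left_cancel t (ht.2.trans hu.2.symm))
      subst hcd
      rfl
    have h1 := Nat.card_le_card_of_injective Φ hΦ
    have := Fintype.ofFinite (X ⧸ F.N)
    rw [Nat.card_sigma, Finset.sum_congr rfl fun c _ => E.card_inv_pair (hne' c), Finset.sum_const,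
      Finset.card_univ, ← Nat.card_eq_fintype_card, hn, smul_eq_mul, mul_comm] at h1
    exact h1
  obtain ⟨⟨t₀, ht₀⟩⟩ : Nonempty U := by
    by_contra hemp
    rw [not_nonempty_iff] at hemp
    rw [Nat.card_of_isEmpty] at hUcard
    nlinarith
  let Y : Subgroup G := X ⊓ X.map (MulAut.conj g).toMonoidHom
  have hgX : ∀ y : G, y ∈ X.map (MulAut.conj g).toMonoidHom ↔ g⁻¹ * y * g ∈ X := by
    intro y
    constructor
    · rintro ⟨x, hx, rfl⟩
      show g⁻¹ * (g * x * g⁻¹) * g ∈ X
      rwa [show g⁻¹ * (g * x * g⁻¹) * g = x by group]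
    · intro hy
      exact ⟨_, hy, show g * (g⁻¹ * y * g) * g⁻¹ = y by group⟩
  have hUY : ∀ t ∈ U, ∀ u ∈ U, t * u ∈ Y := by
    intro t ht u hu
    refine ⟨?_, (hgX _).2 ?_⟩
    · have h1 := X.mul_mem (X.inv_mem ht.2) hu.2
      rwa [mul_inv_rev, inv_inv, inv_eq_of_mul_eq_one_right ht.1.2, mul_assoc, mul_inv_cancel_left] at h1
    · have h1 := X.mul_mem ht.2 (X.inv_mem hu.2)
      rwa [mul_inv_rev, inv_inv, inv_eq_of_mul_eq_one_right hu.1.2,
        show g⁻¹ * t * (u * g) = g⁻¹ * (t * u) * g by group] at h1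
  have hYodd : Odd (Nat.card Y) := by
    by_contra hev
    rw [Nat.not_odd_iff_even, even_iff_two_dvd] at hev
    haveI : Fact (Nat.Prime 2) := ⟨Nat.prime_two⟩
    obtain ⟨v, hv⟩ := exists_prime_orderOf_dvd_card' 2 hev
    have hv2 : (v : G) * v = 1 := by
      have := pow_orderOf_eq_one (v : G)
      rwa [Subgroup.orderOf_coe, hv, pow_two] at this
    have hv1 : (v : G) ≠ 1 := fun e => by
      rw [← Subgroup.orderOf_coe, e, orderOf_one] at hv; omega
    have hvI : Inv (v : G) := ⟨hv1, hv2⟩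
    obtain ⟨x, hx⟩ := F.exists_conj_z (t := ⟨v, v.2.1⟩) (inv_coe.1 hvI)
    have hx' : (x : G) * E.z * (x : G)⁻¹ = v := congrArg Subtype.val hx
    obtain ⟨y, hy⟩ := F.exists_conj_z (t := ⟨g⁻¹ * v * g, (hgX _).1 v.2.2⟩)
      (inv_coe.1 (show Inv (g⁻¹ * (v : G) * g) by simpa using inv_conj hvI g⁻¹))
    have hy' : (y : G) * E.z * (y : G)⁻¹ = g⁻¹ * v * g := congrArg Subtype.val hy
    have hfix : ∀ w : G, (w * E.z * w⁻¹) • (w • E.pt) = w • E.pt := fun w => (E.fix_iff _ _).2 (by
      rw [show w⁻¹ * (w * E.z * w⁻¹) * w = E.z by group]; exact E.A_le_N E.z_mem)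
    have h1 : (v : G) • ((g * y) • E.pt) = (g * y) • E.pt := by
      have := hfix (g * y)
      rwa [show g * (y : G) * E.z * (g * y)⁻¹ = g * ((y : G) * E.z * (y : G)⁻¹) * g⁻¹ by group, hy',
        show g * (g⁻¹ * (v : G) * g) * g⁻¹ = v by group] at this
    have h2 : (v : G) • ((x : G) • E.pt) = (x : G) • E.pt := hx' ▸ hfix x
    have h3 := (E.fix_exists_unique hvI).unique h1 h2
    have h4 : ((x : G)⁻¹ * (g * y)) • E.pt = E.pt := by
      rw [mul_smul, h3, inv_smul_smul]
    have h5 := X.mul_mem (X.mul_mem x.2 (hN (E.stab_pt.1 h4))) (X.inv_mem y.2)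
    rw [show (x : G) * ((x : G)⁻¹ * (g * y)) * (y : G)⁻¹ = g by group] at h5
    exact hg h5
  -- the action of `Y` on the orbit of `X`
  let ψ : Y →* Equiv.Perm (X ⧸ F.N) := F.perm.comp (Subgroup.inclusion inf_le_left)
  have hψ : ∀ y : Y, ψ y = 1 → Subgroup.inclusion (inf_le_left : Y ≤ X) y ∈ F.K := fun y hy =>
    perm_eq_one.1 hy
  let f : U → ψ.range := fun t => ⟨ψ ⟨t₀ * t, hUY t₀ ht₀ t t.2⟩, _, rfl⟩
  have hfinj : Function.Injective f := by
    intro t u e
    have e' : ψ ⟨t₀ * t, hUY t₀ ht₀ t t.2⟩ = ψ ⟨t₀ * u, hUY t₀ ht₀ u u.2⟩ := congrArg Subtype.val e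
    have hK := hψ ⟨t * u, hUY t t.2 u u.2⟩ (by
      have e2 : (⟨t * u, hUY t t.2 u u.2⟩ : Y) =
          (⟨t₀ * t, hUY t₀ ht₀ t t.2⟩ : Y)⁻¹ * ⟨t₀ * u, hUY t₀ ht₀ u u.2⟩ := Subtype.ext (by
        show (t : G) * u = (t₀ * t)⁻¹ * (t₀ * u)
        rw [mul_inv_rev, inv_eq_of_mul_eq_one_right t.2.1.2, inv_eq_of_mul_eq_one_right ht₀.1.2]
        rw [mul_assoc, ← mul_assoc t₀ t₀, ht₀.1.2, one_mul])
      rw [e2, map_mul, map_inv, e', inv_mul_cancel])
    have hA : (t : G) * u ∈ E.A := (sub_mem_A h).1 (F.K_le_A hK)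
    have hpt : ((t : G) * u) • E.pt = E.pt := E.stab_pt.2 (E.A_le_N hA)
    have hb : ((t : G) * u) • orbitMap h bF = orbitMap h bF := by
      have h1 := congrArg (orbitMap h) (F.mem_K.1 hK bF)
      rw [orbitMap_smul] at h1
      exact h1
    have hbne : orbitMap h bF ≠ E.pt := fun e => hbF (orbitMap_injective h (e.trans (orbitMap_pt h).symm))
    have h1 := E.D_A_inverted hbne (E.mem_D.2 ⟨hpt, hb⟩) hA t.2.1 (by
      rw [mul_inv_rev, inv_eq_of_mul_eq_one_right t.2.1.2, inv_eq_of_mul_eq_one_right u.2.1.2,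
        ← mul_assoc, t.2.1.2, one_mul])
    rw [mul_eq_one_iff_eq_inv, inv_eq_of_mul_eq_one_right u.2.1.2] at h1
    exact Subtype.ext h1
  have hHcard : Nat.card F.perm.range = (E.k + 2) * ((E.k + 1) * E.k) := by
    rw [Zassenhaus.card_eq (zassenhaus hG) hbF.symm, hn, card_D_range hG hbF, hkF]
    rfl
  have hle : ψ.range ≤ F.perm.range := by
    rintro _ ⟨y, rfl⟩
    exact ⟨_, rfl⟩
  have hdvd : Nat.card ψ.range ∣ E.k * (E.k + 2) := by
    have h1 : Nat.card ψ.range ∣ (E.k * (E.k + 2)) * (E.k + 1) := by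
      rw [show E.k * (E.k + 2) * (E.k + 1) = (E.k + 2) * ((E.k + 1) * E.k) by ring, ← hHcard]
      exact Subgroup.card_dvd_of_le hle
    refine Nat.Coprime.dvd_of_dvd_mul_right ?_ h1
    obtain ⟨r, hr⟩ := E.exists_card_W
    rw [hr]
    exact (Nat.coprime_two_right.2 (hYodd.of_dvd_nat (Subgroup.card_range_dvd ψ))).pow_right r
  have hUr := Nat.card_le_card_of_injective f hfinj
  have hrange : Nat.card ψ.range = E.k * (E.k + 2) :=
    le_antisymm (Nat.le_of_dvd (by positivity) hdvd) (hUcard.trans hUr)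
  have hfbij : Function.Bijective f :=
    (Nat.bijective_iff_injective_and_card f).2 ⟨hfinj, le_antisymm hUr (hrange ▸ hUcard)⟩
  -- `t₀` normalises `Y`; the commutators of `Y` are central
  have ht₀i : t₀⁻¹ = t₀ := inv_eq_of_mul_eq_one_right ht₀.1.2
  have htY : ∀ y ∈ Y, t₀ * y * t₀ ∈ Y := by
    intro y hy
    generalize hl : g⁻¹ * t₀ = l at *
    have hl' : g⁻¹ * t₀ ∈ X := ht₀.2
    refine ⟨?_, (hgX _).2 ?_⟩
    · have h1 := X.mul_mem (X.mul_mem (X.inv_mem hl') ((hgX y).1 hy.2)) hl'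
      rwa [mul_inv_rev, inv_inv, ht₀i,
        show t₀ * g * (g⁻¹ * y * g) * (g⁻¹ * t₀) = t₀ * y * t₀ by group] at h1
    · have h1 := X.mul_mem (X.mul_mem hl' hy.1) (X.inv_mem hl')
      rwa [mul_inv_rev, inv_inv, ht₀i,
        show g⁻¹ * t₀ * y * (t₀ * g) = g⁻¹ * (t₀ * y * t₀) * g by group] at h1
  let i : Y → Y := fun y => ⟨t₀ * y * t₀, htY y y.2⟩
  have hi_mul : ∀ a b : Y, i (a * b) = i a * i b := fun a b => Subtype.ext (by
    show t₀ * ((a : G) * b) * t₀ = t₀ * a * t₀ * (t₀ * b * t₀)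
    rw [show t₀ * (a : G) * t₀ * (t₀ * b * t₀) = t₀ * a * (t₀ * t₀) * b * t₀ by group, ht₀.1.2]
    group)
  have hii : ∀ a : Y, i (i a) = a := fun a => Subtype.ext (by
    show t₀ * (t₀ * (a : G) * t₀) * t₀ = a
    rw [show t₀ * (t₀ * (a : G) * t₀) * t₀ = (t₀ * t₀) * a * (t₀ * t₀) by group, ht₀.1.2, one_mul,
      mul_one])
  have hKc : ∀ κ : Y, ψ κ = 1 → κ ∈ Subgroup.center Y := fun κ hκ =>
    Subgroup.mem_center_iff.2 fun y => by
      have h1 : (y : G) * κ = κ * y := congrArg Subtype.val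
        (F.K_commute (hψ κ hκ) (Subgroup.inclusion inf_le_left y)).eq
      exact Subtype.ext h1
  have hic : ∀ κ : Y, κ ∈ Subgroup.center Y → i κ ∈ Subgroup.center Y := by
    intro κ hκ
    refine Subgroup.mem_center_iff.2 fun y => ?_
    conv_lhs => rw [← hii y]
    conv_rhs => rw [← hii y]
    rw [← hi_mul, ← hi_mul, Subgroup.mem_center_iff.1 hκ]
  have hinv : ∀ y : Y, i y * y ∈ Subgroup.center Y := by
    intro y
    obtain ⟨t, ht⟩ := hfbij.2 ⟨ψ y, _, rfl⟩
    let j : Y := ⟨t₀ * t, hUY t₀ ht₀ t t.2⟩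
    have hj : ψ (j⁻¹ * y) = 1 := by
      rw [map_mul, map_inv, show ψ j = ψ y from congrArg Subtype.val ht, inv_mul_cancel]
    have hc := hKc _ hj
    have hij : i j = j⁻¹ := Subtype.ext (by
      show t₀ * (t₀ * (t : G)) * t₀ = (t₀ * t)⁻¹
      rw [mul_inv_rev, ht₀i, inv_eq_of_mul_eq_one_right t.2.1.2, ← mul_assoc t₀ t₀, ht₀.1.2, one_mul])
    generalize hκ : j⁻¹ * y = κ at hc
    have hy : y = j * κ := by rw [← hκ]; group
    rw [hy, hi_mul, hij]
    have e : j⁻¹ * i κ * (j * κ) = i κ * κ := by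
      rw [Subgroup.mem_center_iff.1 (hic κ hc) j⁻¹]; group
    rw [e]
    exact Subgroup.mul_mem _ (hic κ hc) hc
  have hcomm : ∀ a b : Y, a * b * a⁻¹ * b⁻¹ ∈ Subgroup.center Y := by
    have key : ∀ a b : Y, a⁻¹ * b⁻¹ * a * b ∈ Subgroup.center Y := by
      intro a b
      have ha := hinv a
      have hb := hinv b
      have hab := hinv (a * b)
      rw [hi_mul] at hab
      generalize hκa : i a * a = κa at ha
      generalize hκb : i b * b = κb at hb
      have ea : i a = κa * a⁻¹ := by rw [← hκa]; group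
      have eb : i b = κb * b⁻¹ := by rw [← hκb]; group
      rw [ea, eb] at hab
      have e : κa * a⁻¹ * (κb * b⁻¹) * (a * b) = (κa * κb) * (a⁻¹ * b⁻¹ * a * b) := by
        calc κa * a⁻¹ * (κb * b⁻¹) * (a * b) = κa * (a⁻¹ * κb) * (b⁻¹ * (a * b)) := by group
          _ = _ := by rw [Subgroup.mem_center_iff.1 hb a⁻¹]; group
      rw [e] at hab
      exact (Subgroup.mul_mem_cancel_left _ (Subgroup.mul_mem _ ha hb)).1 hab
    intro a b
    simpa using key a⁻¹ b⁻¹
  -- a point stabiliser in `Y`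
  let P : Subgroup Y := (stabilizer (Equiv.Perm (X ⧸ F.N)) F.pt).comap ψ
  have hPmem : ∀ y : Y, y ∈ P ↔ Subgroup.inclusion (inf_le_left : Y ≤ X) y • F.pt = F.pt :=
    fun y => Iff.rfl
  obtain ⟨w, hwP, hw1⟩ : ∃ w ∈ P, ψ w ≠ 1 := by
    by_contra hno
    push Not at hno
    have hinj : Function.Injective (fun q : ψ.range => (q : Equiv.Perm (X ⧸ F.N)) F.pt) := by
      rintro ⟨_, a, rfl⟩ ⟨_, b, rfl⟩ e
      have hab : a⁻¹ * b ∈ P := by
        show ψ (a⁻¹ * b) • F.pt = F.pt
        rw [map_mul, map_inv, mul_smul, inv_smul_eq_iff]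
        exact e.symm
      have := hno _ hab
      rw [map_mul, map_inv, inv_mul_eq_one] at this
      exact Subtype.ext this
    have := Nat.card_le_card_of_injective _ hinj
    rw [hrange, hn] at this
    nlinarith
  -- the point stabiliser is self-normalising
  have hnorm : ∀ y : Y, y ∈ Subgroup.normalizer (P : Set Y) → y ∈ P := by
    intro y hy
    rw [hPmem]
    generalize hc : Subgroup.inclusion (inf_le_left : Y ≤ X) y • F.pt = c
    by_contra hcne
    let W' : X := Subgroup.inclusion inf_le_left w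
    let y' : X := Subgroup.inclusion inf_le_left y
    have hfix : ∀ d : X ⧸ F.N, (∀ q ∈ P, Subgroup.inclusion (inf_le_left : Y ≤ X) q • d = d) →
        ∀ q ∈ P, Subgroup.inclusion (inf_le_left : Y ≤ X) q • (y' • d) = y' • d := by
      intro d hd q hq
      have h1 := hd _ ((Subgroup.mem_normalizer_iff.1 (inv_mem hy) q).1 hq)
      rwa [inv_inv, map_mul, map_mul, map_inv, mul_smul, mul_smul, inv_smul_eq_iff] at h1
    have hc1 := hfix F.pt fun q hq => (hPmem q).1 hq
    have hc2 := hfix _ hc1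
    have hwc : W' • c = c := hc ▸ hc1 w hwP
    have hwD : W' ∈ F.D c := F.mem_D.2 ⟨(hPmem w).1 hwP, hwc⟩
    rcases eq_or_ne (y' • c) F.pt with hyc | hyc
    · obtain ⟨j, hj⟩ := hYodd
      have h2 : ∀ n : ℕ, y' ^ (2 * n) • F.pt = F.pt := by
        intro n
        induction n with
        | zero => simp
        | succ n ih =>
          rw [show 2 * (n + 1) = 2 + 2 * n by ring, pow_add, mul_smul, ih, pow_two, mul_smul, hc, hyc]
      have h3 : y ^ (2 * j + 1) = 1 := hj ▸ pow_card_eq_one'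
      have h4 : y' ^ (2 * j + 1) = 1 := by
        rw [← map_pow, h3, map_one]
      rw [pow_succ'] at h4
      have h5 := congrArg (· • F.pt) h4
      simp only [mul_smul, h2, one_smul] at h5
      exact hcne (hc ▸ h5)
    · have hyc' : y' • c ≠ c := fun e => hcne (smul_left_cancel y' (e.trans hc.symm))
      have hwy : W' • (y' • c) = y' • c := hc ▸ hc2 w hwP
      have hK := fix3 hG hcne hyc (Ne.symm hyc') hwD hwy
      exact hw1 (perm_eq_one.2 hK)
  have hZP : Subgroup.center Y ≤ P := fun z hz => hnorm z (by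
    refine Subgroup.mem_normalizer_iff.2 fun q => ?_
    rw [← Subgroup.mem_center_iff.1 hz q, mul_inv_cancel_right])
  have hnormal : Subgroup.normalizer (P : Set Y) = ⊤ := by
    refine eq_top_iff.2 fun y _ => Subgroup.mem_normalizer_iff.2 fun q => ?_
    have e : y * q * y⁻¹ = (y * q * y⁻¹ * q⁻¹) * q := by group
    rw [e, Subgroup.mul_mem_cancel_left _ (hZP (hcomm y q))]
  have hfixall : ∀ y : Y, y ∈ P := fun y => hnorm y (hnormal ▸ Subgroup.mem_top y)
  have hst : ψ.range.subgroupOf F.perm.range ≤ stabilizer F.perm.range F.pt := by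
    rintro ⟨σ, hσ⟩ hmem'
    obtain ⟨y, rfl⟩ := Subgroup.mem_subgroupOf.1 hmem'
    exact hfixall y
  have h1 := Subgroup.card_le_of_le hst
  rw [Nat.card_congr (Subgroup.subgroupOfEquivOfLe hle).toEquiv, hrange,
    Zassenhaus.card_stab (zassenhaus hG) hbF.symm, hn, card_D_range hG hbF, hkF] at h1
  have h2 : (E.k + 2 - 1) * E.k < E.k * (E.k + 2) := by
    rw [show E.k + 2 - 1 = E.k + 1 by omega]
    nlinarith
  omega

end Setup

open Setup in
theorem good_aux : ∀ (n : ℕ) (G : Type u) [Group G] [Finite G] (E : Setup G), Nat.card G = n →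
    E.Good := by
  intro n
  induction n using Nat.strong_induction_on with
  | _ n ih =>
    intro G _ _ E hn
    have hsub : ∀ (X : Subgroup G) (h : E.Big X), X ≠ ⊤ → (E.sub X h).Good := fun X h hX =>
      ih _ (hn ▸ lt_of_le_of_ne (Subgroup.card_le_card_group X)
        fun e => hX (Subgroup.eq_top_of_card_eq X e)) X (E.sub X h) rfl
    by_cases hgen : Subgroup.closure {t : G | Inv t} = ⊤
    swap
    · -- the subgroup generated by the involutions
      let M := Subgroup.closure {t : G | Inv t}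
      have hIM : ∀ t : G, Inv t → t ∈ M := fun t ht => Subgroup.subset_closure ht
      have hBig : E.Big M := by
        refine ⟨fun w hw => ?_, ?_⟩
        · by_cases hw1 : w = 1
          · rw [hw1]; exact one_mem _
          · exact hIM w ⟨hw1, hw.2⟩
        · obtain ⟨b, hb⟩ := E.exists_ne_pt
          obtain ⟨t, ht⟩ := E.exists_swap hb
          exact ⟨t, hIM t ht.1, fun h => hb (ht.2.symm.trans (E.stab_pt.2 h))⟩
      intro b c hb hc
      have hmem : ∀ d : G ⧸ E.N, ∃ g ∈ M, g • E.pt = d := by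
        intro d
        obtain ⟨h, rfl⟩ := E.exists_smul_pt d
        obtain ⟨x, hx⟩ := (E.sub M hBig).exists_conj_z
          (t := ⟨h * E.z * h⁻¹, hIM _ (inv_conj E.z_inv h)⟩) (inv_coe.1 (inv_conj E.z_inv h))
        have hx' : (x : G) * E.z * (x : G)⁻¹ = h * E.z * h⁻¹ := congrArg Subtype.val hx
        have hfix : ∀ w : G, (w * E.z * w⁻¹) • (w • E.pt) = w • E.pt := fun w => (E.fix_iff _ _).2 (by
          rw [show w⁻¹ * (w * E.z * w⁻¹) * w = E.z by group]; exact E.A_le_N E.z_mem)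
        exact ⟨x, x.2, (E.fix_exists_unique (inv_conj E.z_inv h)).unique (hx' ▸ hfix x) (hfix h)⟩
      obtain ⟨g, hg, rfl⟩ := hmem b
      obtain ⟨g', hg', rfl⟩ := hmem c
      exact sub_trans hBig (hsub M hBig hgen) hg hg' hb hc
    by_cases hZ : Subgroup.center G = ⊥
    swap
    · exact E.good_of_quotient (ih _ (hn ▸ Solvable.card_quotient_lt hZ) _ E.centerQuotient rfl)
    refine E.good_of_coreTrivial (fun b hb x hx hxA s hs hsx => ?_) hgen
    by_contra hx1
    -- the involutions of `T b` centralise `x`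
    have hT : ∀ t ∈ E.T b, Commute t x := by
      intro t ht
      have hd : s * t ∈ E.N := E.D_le_N b (E.mul_mem_D hs ht)
      have h1 : t * x * t⁻¹ ∈ E.A := by
        have := E.mem_N_conj (inv_mem hd) hsx
        have e : (s * t)⁻¹ * (s * x * s⁻¹) * (s * t)⁻¹⁻¹ = t * x * t⁻¹ := by
          rw [inv_inv, mul_inv_rev, E.T_inv hs, E.T_inv ht]
          calc t * s * (s * x * s) * (s * t) = t * (s * s) * x * (s * s) * t := by group
            _ = t * x * t := by rw [hs.1.2, mul_one, mul_one]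
        rwa [e] at this
      have hy : t * x * t⁻¹ * x⁻¹ ∈ E.D b :=
        (E.D b).mul_mem (E.T_conj_D ht hx) ((E.D b).inv_mem hx)
      have h2 := E.D_A_inverted hb hy (E.A.mul_mem h1 (E.A.inv_mem hxA)) ht.1 (by
        rw [E.T_inv ht, mul_inv_rev, mul_inv_rev, mul_inv_rev, inv_inv, E.T_inv ht]
        calc t * (t * x * t * x⁻¹) * t = (t * t) * (x * t * x⁻¹ * t) := by group
          _ = x * (t * (x⁻¹ * t)) := by rw [ht.1.2, one_mul]; group)
      exact mul_inv_eq_iff_eq_mul.1 (mul_inv_eq_one.1 h2)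
    let L := Subgroup.centralizer ({x} : Set G)
    have hAL : E.A ≤ L := fun a ha => Subgroup.mem_centralizer_singleton_iff.2 (E.A_comm ha hxA).eq
    have hNL : E.N ≤ L := by
      intro g hg
      obtain ⟨t, ht, hA⟩ := E.exists_T_decomp hb hs hg
      have h1 : s * t ∈ L :=
        Subgroup.mem_centralizer_singleton_iff.2 ((hT s hs).mul_left (hT t ht)).eq
      have h2 := L.mul_mem h1 (hAL hA)
      rwa [mul_inv_cancel_left] at h2
    have hBig : E.Big L := ⟨fun w hw => hAL hw.1, s,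
      Subgroup.mem_centralizer_singleton_iff.2 (hT s hs).eq,
      fun h => hb (hs.2.symm.trans (E.stab_pt.2 h))⟩
    have hL : L ≠ ⊤ := fun h => hx1 (by
      have : x ∈ Subgroup.center G := Subgroup.mem_center_iff.2 fun g =>
        Subgroup.mem_centralizer_singleton_iff.1 (h ▸ Subgroup.mem_top g : g ∈ L)
      rw [hZ, Subgroup.mem_bot] at this
      exact this)
    exact hL (eq_top_of_good_sub hBig hNL (hsub L hBig hL))

/-- In a group with abelian involution centralisers `A` is transitive on the other points. -/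
theorem Setup.good {G : Type u} [Group G] [Finite G] (E : Setup G) : E.Good :=
  good_aux _ G E rfl

end Cfsg.Agent.AbelCent
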