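/-
Groups with abelian involution centralisers: `G ≅ SL₂(2^f) × A` with `A` abelian of odd order.

* `sylow_abelian` : a Sylow subgroup meeting the kernel `K` is abelian
* `K_inf_commutator` : `K ∩ G' = 1`
* `split` : the theorem
-/
import Cfsg.Agent.Lib.AbelCent.Induction
import Cfsg.Agent.Lib.PSL2.Centralizers
import Cfsg.Agent.Lib.Linear.SLn
import Cfsg.Agent.EqLemmas

set_option autoImplicit false

open MulAction

namespace Cfsg.Agent.AbelCent

open CAEven (Inv inv_conj conj_or_common)

universe u

namespace Setup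

variable {G : Type u} [Group G] [Finite G] (E : Setup G)

theorem sylow_abelian {F : Type} [Field F] [Finite F] [CharP F 2]
    (χ : G →* Matrix.ProjectiveSpecialLinearGroup (Fin 2) F) (hker : χ.ker = E.K)
    {p : ℕ} [hp : Fact p.Prime] (hp2 : p ≠ 2) (P : Sylow p G) :
    ∀ a b : (P : Subgroup G), a * b = b * a := by
  haveI : Fact (Nat.Prime 2) := ⟨Nat.prime_two⟩
  let f := χ.subgroupMap (P : Subgroup G)
  have hfsurj : Function.Surjective f := χ.subgroupMap_surjective _
  have hfK : f.ker ≤ Subgroup.center (P : Subgroup G) := by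
    intro a ha
    have hK : (a : G) ∈ E.K := hker ▸ MonoidHom.mem_ker.2 (congrArg Subtype.val ha)
    exact Subgroup.mem_center_iff.2 fun b => Subtype.ext (E.K_commute hK b).eq
  suffices IsCyclic ((P : Subgroup G).map χ) from fun a b => commutative_of_cyclic_center_quotient f hfK a b
  have hQ : IsPGroup p ((P : Subgroup G).map χ) := P.2.map χ
  rcases subsingleton_or_nontrivial ((P : Subgroup G).map χ) with hs | hn
  · infer_instance
  haveI := hQ.center_nontrivial
  obtain ⟨w, hw⟩ := exists_ne (1 : Subgroup.center ((P : Subgroup G).map χ))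
  have hw1 : ((w : (P : Subgroup G).map χ) : Matrix.ProjectiveSpecialLinearGroup (Fin 2) F) ≠ 1 :=
    fun h => hw (Subtype.ext (Subtype.ext h))
  obtain ⟨i, hi⟩ := IsPGroup.iff_orderOf.1 hQ w.1
  rw [← Subgroup.orderOf_coe] at hi
  have hord : 3 ≤ orderOf ((w : (P : Subgroup G).map χ) : Matrix.ProjectiveSpecialLinearGroup (Fin 2) F) := by
    rcases i with _ | i
    · exact absurd (orderOf_eq_one_iff.1 (by simpa using hi)) hw1
    · rw [hi]
      have := hp.out.two_le
      calc 3 ≤ p := by omega
        _ ≤ p ^ (i + 1) := le_self_pow₀ (by omega) i.succ_ne_zero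
  have hnd : ¬ orderOf ((w : (P : Subgroup G).map χ) : Matrix.ProjectiveSpecialLinearGroup (Fin 2) F) ∣ 2 :=
    fun h => by have := Nat.le_of_dvd two_pos h; omega
  obtain ⟨y, -, hy, -⟩ := PSL2.centralizer_torus 2 hnd hord
  refine Subgroup.isCyclic_of_le (H' := Subgroup.zpowers y) ?_
  rw [← hy]
  exact fun v hv => Subgroup.mem_centralizer_singleton_iff.2
    (congrArg Subtype.val (Subgroup.mem_center_iff.1 w.2 ⟨v, hv⟩))

theorem K_inf_commutator {F : Type} [Field F] [Finite F] [CharP F 2]
    (χ : G →* Matrix.ProjectiveSpecialLinearGroup (Fin 2) F) (hker : χ.ker = E.K) :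
    E.K ⊓ commutator G = ⊥ := by
  by_contra h
  haveI : Nontrivial (E.K ⊓ commutator G : Subgroup G) := (Subgroup.nontrivial_iff_ne_bot _).2 h
  obtain ⟨p, hp, hpd⟩ := Nat.exists_prime_and_dvd
    (n := Nat.card (E.K ⊓ commutator G : Subgroup G)) (Finite.one_lt_card.ne')
  haveI : Fact p.Prime := ⟨hp⟩
  obtain ⟨z, hz⟩ := exists_prime_orderOf_dvd_card' p hpd
  have hzo : orderOf (z : G) = p := by rw [Subgroup.orderOf_coe, hz]
  have hzc : (z : G) ∈ Subgroup.center G := E.K_le_center z.2.1
  have hp2 : p ≠ 2 := by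
    rintro rfl
    have h1 := pow_orderOf_eq_one (z : G)
    rw [hzo, pow_two] at h1
    rw [E.center_eq_one_of_sq hzc h1, orderOf_one] at hzo
    omega
  haveI : (Subgroup.zpowers (z : G)).Normal :=
    ⟨fun w hw g => by
      rw [Subgroup.mem_center_iff.1 (Subgroup.zpowers_le.2 hzc hw) g, mul_inv_cancel_right]
      exact hw⟩
  let P : Sylow p G := default
  have hzP : (z : G) ∈ (P : Subgroup G) :=
    (IsPGroup.of_card (p := p) (n := 1) (G := Subgroup.zpowers (z : G))
      (by rw [Nat.card_zpowers, hzo, pow_one])).le_sylow_of_normal P (Subgroup.mem_zpowers _)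
  haveI : IsMulCommutative (P : Subgroup G) := ⟨⟨E.sylow_abelian χ hker hp2 P⟩⟩
  open scoped IsMulCommutative in
  have hV : MonoidHom.transfer (MonoidHom.id (P : Subgroup G)) (z : G) =
      (⟨z, hzP⟩ : (P : Subgroup G)) ^ (P : Subgroup G).index := by
    refine TwoFusion.transfer_eq_pow_of_controlled (MonoidHom.id (P : Subgroup G)) ⟨z, hzP⟩
      fun k a hm => Subtype.ext ?_
    show a * (z : G) ^ k * a⁻¹ = (((⟨z, hzP⟩ : (P : Subgroup G)) ^ k : (P : Subgroup G)) : G)
    rw [Subgroup.coe_pow, Subgroup.mem_center_iff.1 (Subgroup.pow_mem _ hzc k) a, mul_inv_cancel_right]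
  open scoped IsMulCommutative in
  have h1 : MonoidHom.transfer (MonoidHom.id (P : Subgroup G)) (z : G) = 1 :=
    MonoidHom.mem_ker.1 (Abelianization.commutator_subset_ker _ z.2.2)
  rw [h1] at hV
  have h2 : (⟨z, hzP⟩ : (P : Subgroup G)) = 1 := TwoFusion.eq_one_of_pow_eq_one_of_coprime hV.symm
    (Subtype.ext (show (z : G) ^ p = 1 from hzo ▸ pow_orderOf_eq_one _))
    (hp.coprime_iff_not_dvd.2 P.not_dvd_index).symm
  rw [show (z : G) = 1 from congrArg Subtype.val h2, orderOf_one] at hzo
  exact hp.ne_one hzo.symm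

theorem split (E : Setup G) : ∃ (F : Type) (_ : Field F) (_ : Fintype F) (A : Type) (_ : CommGroup A) (_ : Finite A),
    CharP F 2 ∧ Odd (Nat.card A) ∧ Nonempty (G ≃* Matrix.SpecialLinearGroup (Fin 2) F × A) := by
  classical
  obtain ⟨F, iF, iFt, f, χ, hf, hF, hsurj, hker⟩ := exists_psl E.good
  have hchar : ringChar F = 2 := FiniteField.even_card_iff_char_two.2 (by
    rw [hF, Nat.pow_mod, Nat.mod_self, zero_pow (by omega), Nat.zero_mod])
  haveI hC : CharP F 2 := hchar ▸ ringChar.charP F
  have hcen : Subgroup.center (Matrix.SpecialLinearGroup (Fin 2) F) = ⊥ := by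
    rw [Subgroup.eq_bot_iff_forall]
    intro w hw
    obtain ⟨r, hr, he⟩ := Matrix.SpecialLinearGroup.mem_center_iff.1 hw
    have hr1 : r = 1 := by
      have h0 : (r - 1) * (r - 1) = 0 := by
        linear_combination (by simpa using hr : r ^ 2 = 1) + (1 - r) * CharTwo.two_eq_zero (R := F)
      exact sub_eq_zero.1 (mul_self_eq_zero.1 h0)
    exact Subtype.ext (by rw [← he, hr1]; simp)
  let π : Matrix.SpecialLinearGroup (Fin 2) F ≃* Matrix.ProjectiveSpecialLinearGroup (Fin 2) F :=
    MulEquiv.ofBijective (QuotientGroup.mk' _)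
      ⟨(MonoidHom.ker_eq_bot_iff _).1 (by rw [QuotientGroup.ker_mk', hcen]),
        QuotientGroup.mk'_surjective _⟩
  have hperf : commutator (Matrix.ProjectiveSpecialLinearGroup (Fin 2) F) = ⊤ := by
    have hsl : commutator (Matrix.SpecialLinearGroup (Fin 2) F) = ⊤ := by
      refine Linear.commutator_sl_eq_top (Or.inr ?_)
      have h4 : 2 < Fintype.card F := by
        rw [hF]
        calc 2 < 2 ^ 2 := by norm_num
          _ ≤ 2 ^ f := Nat.pow_le_pow_right two_pos hf
      obtain ⟨x, hx⟩ : ∃ x : F, x ∉ ({0, 1} : Finset F) := by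
        by_contra hno
        push Not at hno
        have h := Finset.card_le_card (show (Finset.univ : Finset F) ⊆ {0, 1} from fun x _ => hno x)
        rw [Finset.card_univ] at h
        have := Finset.card_le_two (a := (0 : F)) (b := 1)
        omega
      simp only [Finset.mem_insert, Finset.mem_singleton, not_or] at hx
      refine ⟨x, hx.1, fun h => hx.2 ?_⟩
      have h0 : (x - 1) * (x - 1) = 0 := by
        linear_combination h + (1 - x) * CharTwo.two_eq_zero (R := F)
      exact sub_eq_zero.1 (mul_self_eq_zero.1 h0)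
    rw [commutator_def, ← Subgroup.map_top_of_surjective π.toMonoidHom π.surjective,
      ← Subgroup.map_commutator, ← commutator_def, hsl]
  have hGc : (commutator G).map χ = ⊤ := by
    rw [commutator_def, Subgroup.map_commutator, Subgroup.map_top_of_surjective χ hsurj,
      ← commutator_def, hperf]
  let Φ : G →* Matrix.ProjectiveSpecialLinearGroup (Fin 2) F × Abelianization G :=
    χ.prod Abelianization.of
  have hΦ : Function.Bijective Φ := by
    constructor
    · refine (injective_iff_map_eq_one Φ).2 fun g hg => ?_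
      have h1 : g ∈ E.K ⊓ commutator G := ⟨hker ▸ MonoidHom.mem_ker.2 (congrArg Prod.fst hg),
        (QuotientGroup.eq_one_iff g).1 (congrArg Prod.snd hg)⟩
      rwa [E.K_inf_commutator χ hker, Subgroup.mem_bot] at h1
    · rintro ⟨p, a⟩
      obtain ⟨g, rfl⟩ := QuotientGroup.mk_surjective a
      obtain ⟨h, hh, hχ⟩ : (χ g)⁻¹ * p ∈ (commutator G).map χ := hGc ▸ Subgroup.mem_top _
      refine ⟨g * h, Prod.ext ?_ ?_⟩
      · show χ (g * h) = p
        rw [map_mul, hχ, mul_inv_cancel_left]
      · show Abelianization.of (g * h) = Abelianization.of g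
        rw [map_mul, show Abelianization.of h = 1 from (QuotientGroup.eq_one_iff h).2 hh, mul_one]
  have hodd : Odd (Nat.card (Abelianization G)) := by
    have h1 := Nat.card_congr (MulEquiv.ofBijective Φ hΦ).toEquiv
    rw [Nat.card_prod] at h1
    have h2 := χ.ker.card_mul_index
    rw [Subgroup.index_ker, MonoidHom.range_eq_top.2 hsurj, Subgroup.card_top, hker, h1, mul_comm] at h2
    rw [← Nat.eq_of_mul_eq_mul_left Nat.card_pos h2]
    exact E.odd_center.of_dvd_nat (Subgroup.card_dvd_of_le E.K_le_center)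
  refine ⟨F, iF, iFt, Shrink.{0} (Abelianization G), inferInstance,
    Finite.of_equiv _ (equivShrink.{0} (Abelianization G)), hC, ?_,
    ⟨(MulEquiv.ofBijective Φ hΦ).trans (MulEquiv.prodCongr π.symm Shrink.mulEquiv.symm)⟩⟩
  rwa [← Nat.card_congr (equivShrink.{0} (Abelianization G))]

end Setup

end Cfsg.Agent.AbelCent
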